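/- Ring-valued points over a field: values of functions, points of `G_m` and of the affine line (helper50). -/
import Groth.Prelude.Def_HMNum
import Groth.Prelude.Def_CoactBr
import Groth.Agent.MiscGeom.MagnetPts
import Groth.Agent.Misc8.CoactInertia

set_option autoImplicit false

universe u

open CategoryTheory MonoidalCategory CartesianMonoidalCategory MonObj AlgebraicGeometry Opposite
open CoactBr (sp pt)

noncomputable section

namespace Groth.GitMu

section General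

variable {S : Scheme.{u}} {T T' Y Z : Over S}

/-- the point `q` lands in the open `W` -/
def Lands (q : T ⟶ Y) (W : Y.left.Opens) : Prop := ⊤ ≤ q.left ⁻¹ᵁ W

lemma Lands.comp {q : T ⟶ Y} {W : Y.left.Opens} (h : Lands q W) (g : T' ⟶ T) : Lands (g ≫ q) W :=
  fun x _ => h (x := g.left.base x) trivial

lemma lands_top (q : T ⟶ Y) : Lands q ⊤ := fun _ _ => trivial

lemma lands_congr {q q' : T ⟶ Y} {W : Y.left.Opens} (e : q = q') (h : Lands q W) : Lands q' W := e ▸ h

/-- the value of a function on `W` at a point landing in `W` -/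
def ev (q : T ⟶ Y) (W : Y.left.Opens) (h : Lands q W) : Γ(Y.left, W) →+* Γ(T.left, ⊤) :=
  (q.left.appLE W ⊤ h).hom

lemma ev_congr {q q' : T ⟶ Y} (e : q = q') {W : Y.left.Opens} (h : Lands q W) (h' : Lands q' W)
    (c : Γ(Y.left, W)) : ev q W h c = ev q' W h' c := by
  subst e; rfl

lemma ev_comp (g : T' ⟶ T) {q : T ⟶ Y} {W : Y.left.Opens} (h : Lands q W) (h' : Lands (g ≫ q) W)
    (c : Γ(Y.left, W)) : ev (g ≫ q) W h' c = g.left.appTop (ev q W h c) := by
  show (g.left ≫ q.left).appLE W ⊤ h' c = g.left.appTop (q.left.appLE W ⊤ h c)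
  rw [← Scheme.Hom.appLE_comp_appLE g.left q.left W ⊤ ⊤ h (by simp), CommRingCat.comp_apply]
  simp [Scheme.Hom.appTop, Scheme.Hom.appLE]

lemma ev_map {q : T ⟶ Y} {W W' : Y.left.Opens} (i : W' ≤ W) (h' : Lands q W') (h : Lands q W)
    (c : Γ(Y.left, W)) : ev q W' h' (Y.left.presheaf.map (homOfLE i).op c) = ev q W h c := by
  show (Y.left.presheaf.map (homOfLE i).op ≫ q.left.appLE W' ⊤ h') c = q.left.appLE W ⊤ h c
  rw [Scheme.Hom.map_appLE]

lemma ev_appLE {q : T ⟶ Y} (f : Y ⟶ Z) {U : Z.left.Opens} {W : Y.left.Opens} (e : W ≤ f.left ⁻¹ᵁ U)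
    (hW : Lands q W) (hU : Lands (q ≫ f) U) (c : Γ(Z.left, U)) :
    ev q W hW (f.left.appLE U W e c) = ev (q ≫ f) U hU c := by
  show (f.left.appLE U W e ≫ q.left.appLE W ⊤ hW) c = (q.left ≫ f.left).appLE U ⊤ hU c
  rw [Scheme.Hom.appLE_comp_appLE]

lemma ev_app {q : T ⟶ Y} (f : Y ⟶ Z) {U : Z.left.Opens} (hW : Lands q (f.left ⁻¹ᵁ U)) (hU : Lands (q ≫ f) U)
    (c : Γ(Z.left, U)) : ev q (f.left ⁻¹ᵁ U) hW (f.left.app U c) = ev (q ≫ f) U hU c := by
  rw [Scheme.Hom.app_eq_appLE]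
  exact ev_appLE f le_rfl hW hU c

lemma ev_top (q : T ⟶ Y) (h : Lands q ⊤) (c : Γ(Y.left, ⊤)) : ev q ⊤ h c = q.left.appTop c := by
  simp [ev, Scheme.Hom.appTop, Scheme.Hom.appLE]

lemma pv_gm (g : T ⟶ Red.Gm S) (n : Multiplicative ℤ) :
    Groth.MiscGeom.Mag.pv g n = ((GmPts.unitOfPt g ^ Multiplicative.toAdd n : (Γ(T.left, ⊤))ˣ) : Γ(T.left, ⊤)) := by
  have h : Groth.MiscGeom.Mag.pv g = (Units.coeHom _).comp (zpowersHom _ (GmPts.unitOfPt g)) := by
    refine MonoidHom.ext_mint ?_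
    simp only [MonoidHom.comp_apply, zpowersHom_apply, toAdd_ofAdd, zpow_one, Units.coeHom_apply]
    rfl
  rw [h]
  rfl

lemma pv_faceMap {M : Type} [AddCommMonoid M] {N F : AddSubmonoid M} (hF : Magnet.IsFace N F)
    (x : T ⟶ Magnet.AMonS S ↥F) (n : Multiplicative ↥N) :
    Groth.MiscGeom.Mag.pv (x ≫ Magnet.AMonS.faceMap S hF) n =
      Groth.MiscGeom.Mag.pvAlg x (Magnet.faceAlgHom (ULift.{u} ℤ) hF (MonoidAlgebra.single n 1)) := by
  open Groth.MiscGeom.Mag in
  have h : pvX (x ≫ Magnet.AMonS.faceMap S hF) =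
      pvX x ≫ Spec.map (CommRingCat.ofHom (Magnet.faceAlgHom (ULift.{u} ℤ) hF).toRingHom) := by
    refine (Category.assoc _ _ _).trans (Eq.trans ?_ (Category.assoc _ _ _).symm)
    exact congrArg (x.left ≫ ·) (Limits.pullback.lift_fst _ _ _)
  open Groth.MiscGeom.Mag in
  show (pvX (x ≫ Magnet.AMonS.faceMap S hF)).appTop.hom ((Scheme.ΓSpecIso _).inv.hom (zm n)) =
    (pvX x).appTop.hom ((Scheme.ΓSpecIso _).inv.hom _)
  rw [h, Scheme.Hom.comp_appTop]
  show (Groth.MiscGeom.Mag.pvX x).appTop.hom _ = _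
  congr 1
  exact (ConcreteCategory.congr_hom (Scheme.ΓSpecIso_inv_naturality (CommRingCat.ofHom
    (Magnet.faceAlgHom (ULift.{u} ℤ) hF).toRingHom)) (Groth.MiscGeom.Mag.zm n)).symm

/-- powers of the coordinate of the affine line -/
def powPlus {R : Type u} [CommMonoid R] (b : R) : Multiplicative ↥HMNum.plus →* R where
  toFun n := b ^ ((n.toAdd : ↥HMNum.plus) : ℤ).toNat
  map_one' := by simp
  map_mul' m n := by
    rw [← pow_add, toAdd_mul, AddSubmonoid.coe_add,
      Int.toNat_add ((HMNum.mem_plus_iff _).1 (Subtype.prop _)) ((HMNum.mem_plus_iff _).1 (Subtype.prop _))]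

lemma powPlus_apply {R : Type u} [CommMonoid R] (b : R) (n : Multiplicative ↥HMNum.plus) :
    powPlus b n = b ^ ((n.toAdd : ↥HMNum.plus) : ℤ).toNat := rfl

end General

variable {k : Type u} [Field k] {R R' : Type u} [CommRing R] [CommRing R'] [Algebra k R] [Algebra k R']


variable (k R) in
/-- functions on `Spec R` -/
def gam : Γ((sp k R).left, ⊤) ≃+* R :=
  (Scheme.ΓSpecIso (CommRingCat.of R)).commRingCatIsoToRingEquiv

lemma gam_appTop (ψ : R →ₐ[k] R') (c : Γ((sp k R).left, ⊤)) :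
    gam k R' ((pt ψ).left.appTop c) = ψ (gam k R c) :=
  ConcreteCategory.congr_hom (Scheme.ΓSpecIso_naturality (CommRingCat.ofHom ψ.toRingHom)) c

/-- the value of a function at a ring-valued point -/
def val {Y : Over (Spec (CommRingCat.of k))} (q : sp k R ⟶ Y) (W : Y.left.Opens) (h : Lands q W) : Γ(Y.left, W) →+* R :=
  (gam k R).toRingHom.comp (ev q W h)

lemma val_def {Y : Over (Spec (CommRingCat.of k))} (q : sp k R ⟶ Y) (W : Y.left.Opens) (h : Lands q W) (c : Γ(Y.left, W)) :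
    val q W h c = gam k R (ev q W h c) := rfl

lemma val_comp {Y : Over (Spec (CommRingCat.of k))} (ψ : R →ₐ[k] R') {q : sp k R ⟶ Y} {W : Y.left.Opens} (h : Lands q W)
    (h' : Lands (pt ψ ≫ q) W) (c : Γ(Y.left, W)) : val (pt ψ ≫ q) W h' c = ψ (val q W h c) := by
  rw [val_def, ev_comp _ h, gam_appTop]
  rfl

lemma val_congr {Y : Over (Spec (CommRingCat.of k))} {q q' : sp k R ⟶ Y} (e : q = q') {W : Y.left.Opens} (h : Lands q W) (h' : Lands q' W)
    (c : Γ(Y.left, W)) : val q W h c = val q' W h' c := by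
  subst e; rfl

lemma val_map {Y : Over (Spec (CommRingCat.of k))} {q : sp k R ⟶ Y} {W W' : Y.left.Opens} (i : W' ≤ W) (h' : Lands q W') (h : Lands q W)
    (c : Γ(Y.left, W)) : val q W' h' (Y.left.presheaf.map (homOfLE i).op c) = val q W h c := by
  rw [val_def, ev_map i h' h]; rfl

lemma lands_of_res {L : Type u} [Field L] [Algebra k L] [IsLocalRing R] {Y : Over (Spec (CommRingCat.of k))} (ψ : R →ₐ[k] L)
    [IsLocalHom ψ.toRingHom] {q : sp k R ⟶ Y} {W : Y.left.Opens} (h : Lands (pt ψ ≫ q) W) : Lands q W := by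
  intro x _
  have hc : (pt ψ).left.base (IsLocalRing.closedPoint L : PrimeSpectrum L) =
      (IsLocalRing.closedPoint R : PrimeSpectrum R) :=
    IsLocalRing.comap_closedPoint ψ.toRingHom
  have h1 : q.left.base ((pt ψ).left.base (IsLocalRing.closedPoint L : PrimeSpectrum L)) ∈ W :=
    h (x := (IsLocalRing.closedPoint L : PrimeSpectrum L)) trivial
  rw [hc] at h1
  exact ((IsLocalRing.specializes_closedPoint (x : PrimeSpectrum R)).map q.left.base.hom.continuous).mem_open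
    W.isOpen h1

lemma lands_of_mem {L : Type u} [Field L] [Algebra k L] {Y : Over (Spec (CommRingCat.of k))} {q : sp k L ⟶ Y} {W : Y.left.Opens}
    {x : (sp k L).left} (h : q.left.base x ∈ W) : Lands q W := fun x' _ => by
  rwa [show (x' : PrimeSpectrum L) = x from Subsingleton.elim (α := PrimeSpectrum L) _ _]

lemma lands_toUnit {Y : Over (Spec (CommRingCat.of k))} {q : 𝟙_ (Over (Spec (CommRingCat.of k))) ⟶ Y} {W : Y.left.Opens} (h : Lands q W) (T : Over (Spec (CommRingCat.of k))) :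
    Lands (toUnit T ≫ q) W := h.comp _

lemma lands_of_toUnit {Y : Over (Spec (CommRingCat.of k))} {q : 𝟙_ (Over (Spec (CommRingCat.of k))) ⟶ Y} {W : Y.left.Opens}
    (h : Lands (toUnit (sp k k) ≫ q) W) : Lands q W := fun x _ => by
  rw [show x = (toUnit (sp k k)).left.base (IsLocalRing.closedPoint k : PrimeSpectrum k) from
    Subsingleton.elim (α := PrimeSpectrum k) _ _]
  exact h (x := (IsLocalRing.closedPoint k : PrimeSpectrum k)) trivial

instance : IsIso (toUnit (sp k k)) := by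
  have : IsIso (CommRingCat.ofHom (algebraMap k k)) :=
    (ConcreteCategory.isIso_iff_bijective _).2 Function.bijective_id
  have : IsIso ((Over.forget _).map (toUnit (sp k k))) := by
    show IsIso (Spec.map (CommRingCat.ofHom (algebraMap k k)))
    infer_instance
  exact isIso_of_reflects_iso _ (Over.forget _)

/-! ### points of `A(M)` -/

open Groth.MiscGeom.Mag (pv pvPt)

variable {M : Type} [AddCommMonoid M]

/-- character values of a ring-valued point -/
def cv (p : sp k R ⟶ Magnet.AMonS (Spec (CommRingCat.of k)) M) : Multiplicative M →* R :=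
  (gam k R).toRingHom.toMonoidHom.comp (pv p)

lemma cv_apply (p : sp k R ⟶ Magnet.AMonS (Spec (CommRingCat.of k)) M) (m : Multiplicative M) : cv p m = gam k R (pv p m) := rfl

/-- the point with given character values -/
def cvPt (χ : Multiplicative M →* R) : sp k R ⟶ Magnet.AMonS (Spec (CommRingCat.of k)) M :=
  pvPt _ ((gam k R).symm.toRingHom.toMonoidHom.comp χ)

lemma cv_cvPt (χ : Multiplicative M →* R) (m : Multiplicative M) : cv (cvPt (k := k) χ) m = χ m := by
  rw [cv_apply, cvPt, Groth.MiscGeom.Mag.pv_pvPt]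
  exact (gam k R).apply_symm_apply _

lemma cv_ext {p q : sp k R ⟶ Magnet.AMonS (Spec (CommRingCat.of k)) M} (h : ∀ m, cv p m = cv q m) : p = q :=
  Groth.MiscGeom.Mag.pv_ext fun m => (gam k R).injective (h m)

lemma cv_comp (ψ : R →ₐ[k] R') (p : sp k R ⟶ Magnet.AMonS (Spec (CommRingCat.of k)) M) (m : Multiplicative M) :
    cv (pt ψ ≫ p) m = ψ (cv p m) := by
  rw [cv_apply, Groth.MiscGeom.Mag.pv_comp, gam_appTop]
  rfl

lemma comp_cvPt (ψ : R →ₐ[k] R') (χ : Multiplicative M →* R) :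
    pt ψ ≫ cvPt (k := k) χ = cvPt (ψ.toRingHom.toMonoidHom.comp χ) := by
  refine cv_ext fun m => ?_
  rw [cv_comp, cv_cvPt, cv_cvPt]
  rfl

/-- the universal point `Spec k[M] ⟶ A(M)` -/
def uPt (k : Type u) [Field k] (M : Type) [AddCommMonoid M] :
    sp k (MonoidAlgebra k (Multiplicative M)) ⟶ Magnet.AMonS (Spec (CommRingCat.of k)) M :=
  cvPt (MonoidAlgebra.of k (Multiplicative M))

lemma comp_uPt (ψ : MonoidAlgebra k (Multiplicative M) →ₐ[k] R) :
    pt ψ ≫ uPt k M = cvPt (ψ.toRingHom.toMonoidHom.comp (MonoidAlgebra.of k (Multiplicative M))) :=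
  comp_cvPt ψ _

instance isIso_uPt : IsIso (uPt k M) := by
  have e : Spec.map (Groth.MiscGeom.Mag.maConst k M) ≫ 𝟙 (Spec (CommRingCat.of k)) =
      (sp k (MonoidAlgebra k (Multiplicative M))).hom := by
    rw [Category.comp_id]
    rfl
  let w : sp k (MonoidAlgebra k (Multiplicative M)) ≅ Groth.MiscGeom.Mag.spMA (𝟙 (Spec (CommRingCat.of k))) M :=
    Over.isoMk (Iso.refl _) (by
      show 𝟙 _ ≫ _ = _
      rw [Category.id_comp]
      exact e)
  have h : uPt k M = w.hom ≫ (Groth.MiscGeom.Mag.specMAIso (𝟙 (Spec (CommRingCat.of k))) M).hom ≫ fst _ _ := by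
    refine cv_ext fun m => ?_
    rw [uPt, cv_cvPt, cv_apply, Groth.MiscGeom.Mag.pv_comp, Groth.MiscGeom.Mag.pv_specMAIso]
    show _ = (Scheme.ΓSpecIso _).hom.hom (Scheme.Hom.appTop (𝟙 (Spec (CommRingCat.of (MonoidAlgebra k (Multiplicative M)))))
      ((Scheme.ΓSpecIso _).inv.hom (MonoidAlgebra.single m 1)))
    simp
  rw [h]
  have : IsIso (fst (Magnet.AMonS (Spec (CommRingCat.of k)) M) (Over.mk (𝟙 (Spec (CommRingCat.of k))))) := by
    have : fst (Magnet.AMonS (Spec (CommRingCat.of k)) M) (Over.mk (𝟙 (Spec (CommRingCat.of k)))) = (ρ_ (Magnet.AMonS (Spec (CommRingCat.of k)) M)).hom :=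
      (rightUnitor_hom _).symm
    rw [this]
    infer_instance
  infer_instance

/-! ### `G_m` and the affine line -/

/-- the point of `G_m` of a unit -/
def gpt (v : Rˣ) : sp k R ⟶ Red.Gm (Spec (CommRingCat.of k)) :=
  cvPt ((Units.coeHom R).comp (zpowersHom _ v))

lemma cv_gpt (v : Rˣ) (n : Multiplicative ℤ) :
    cv (gpt (k := k) v) n = ((v ^ Multiplicative.toAdd n : Rˣ) : R) := cv_cvPt _ n

lemma unitOfPt_gpt (v : Rˣ) :
    gam k R ((GmPts.unitOfPt (gpt (k := k) v) : (Γ((sp k R).left, ⊤))ˣ) : Γ((sp k R).left, ⊤)) = v := by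
  have := cv_gpt (k := k) v (Multiplicative.ofAdd 1)
  rwa [cv_apply, pv_gm, toAdd_ofAdd, zpow_one, zpow_one] at this

lemma unitOfPt_gpt_zpow (v : Rˣ) (w : ℤ) :
    gam k R ((GmPts.unitOfPt (gpt (k := k) v) ^ w : (Γ((sp k R).left, ⊤))ˣ) : Γ((sp k R).left, ⊤)) = (v ^ w : Rˣ) := by
  have := cv_gpt (k := k) v (Multiplicative.ofAdd w)
  rwa [cv_apply, pv_gm, toAdd_ofAdd] at this

lemma comp_gpt (ψ : R →ₐ[k] R') (v : Rˣ) :
    pt ψ ≫ gpt (k := k) v = gpt (Units.map ψ.toRingHom.toMonoidHom v) := by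
  refine cv_ext fun m => ?_
  rw [cv_comp, cv_gpt, cv_gpt, ← map_zpow]
  rfl

lemma gpt_mul (v w : Rˣ) : gpt (k := k) (v * w) = gpt v * gpt w := by
  refine cv_ext fun m => ?_
  rw [cv_gpt, cv_apply, Groth.MiscGeom.Mag.pv_mul, map_mul, ← cv_apply, ← cv_apply, cv_gpt, cv_gpt, mul_zpow,
    Units.val_mul]

lemma gpt_one : gpt (k := k) (1 : Rˣ) = 1 := by
  refine cv_ext fun m => ?_
  rw [cv_gpt, one_zpow, Units.val_one, cv_apply, Groth.MiscGeom.Mag.pv_one, map_one]

lemma gpt_inv (v : Rˣ) : gpt (k := k) v⁻¹ = (gpt v)⁻¹ := by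
  rw [eq_inv_iff_mul_eq_one, ← gpt_mul, inv_mul_cancel, gpt_one]

/-- the point of the affine line with coordinate `b` -/
def aPt (b : R) : sp k R ⟶ HMNum.A1 (Spec (CommRingCat.of k)) := cvPt (powPlus b)

lemma comp_aPt (ψ : R →ₐ[k] R') (b : R) : pt ψ ≫ aPt (k := k) b = aPt (ψ b) := by
  refine cv_ext fun m => ?_
  rw [aPt, aPt, cv_comp, cv_cvPt, cv_cvPt, powPlus_apply, powPlus_apply, map_pow]

lemma gpt_incl (v : Rˣ) : gpt (k := k) v ≫ HMNum.incl (Spec (CommRingCat.of k)) = aPt (v : R) := by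
  refine cv_ext fun m => ?_
  have h0 : (0 : ℤ) ≤ ((m.toAdd : ↥HMNum.plus) : ℤ) := (HMNum.mem_plus_iff _).1 (Subtype.prop _)
  rw [cv_apply, Groth.MiscGeom.Mag.pv_map, ← cv_apply, cv_gpt, aPt, cv_cvPt, powPlus_apply, ← Units.val_pow_eq_pow_val,
    ← zpow_natCast, Int.toNat_of_nonneg h0]
  rfl

lemma aPt_zero : aPt (k := k) (0 : R) = toUnit (sp k R) ≫ HMNum.origin (Spec (CommRingCat.of k)) := by
  refine cv_ext fun m => ?_
  rw [aPt, cv_cvPt, powPlus_apply, cv_apply, HMNum.origin, ← Category.assoc, ← Hom.one_def, pv_faceMap]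
  have h0 : (0 : ℤ) ≤ ((m.toAdd : ↥HMNum.plus) : ℤ) := (HMNum.mem_plus_iff _).1 (Subtype.prop _)
  by_cases hm : ((m.toAdd : ↥HMNum.plus) : ℤ) ∈ (⊥ : AddSubmonoid ℤ)
  · rw [show m = Multiplicative.ofAdd (Multiplicative.toAdd m) from rfl,
      Magnet.faceAlgHom_single_of_mem _ HMNum.isFace_bot _ hm]
    show _ = gam k R (pv (1 : sp k R ⟶ Magnet.AMonS (Spec (CommRingCat.of k)) ↥(⊥ : AddSubmonoid ℤ)) _)
    rw [Groth.MiscGeom.Mag.pv_one, map_one, toAdd_ofAdd, AddSubmonoid.mem_bot.1 hm, Int.toNat_zero, pow_zero]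
  · rw [show m = Multiplicative.ofAdd (Multiplicative.toAdd m) from rfl,
      Magnet.faceAlgHom_single_of_not_mem _ HMNum.isFace_bot _ hm, map_zero, map_zero, toAdd_ofAdd]
    have : ((m.toAdd : ↥HMNum.plus) : ℤ).toNat ≠ 0 := fun h => hm (AddSubmonoid.mem_bot.2 (by omega))
    exact zero_pow this

end Groth.GitMu
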