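/- Translation of the numerical function of GIT by a rational point (helper91). -/
import Groth.Prelude.Def_HMNum
import Groth.Agent.AlgGrp2.Basic

set_option autoImplicit false

universe u

open CategoryTheory MonoidalCategory CartesianMonoidalCategory MonObj AlgebraicGeometry Opposite
open CategoryTheory.Limits

noncomputable section

namespace Groth.GitMu

variable {S : Scheme.{u}} {G X V : Over S} [GrpObj G]

lemma appLE_congr_hom {Y Z : Scheme.{u}} {f f' : Z ⟶ Y} (e : f = f') (U : Y.Opens) (W : Z.Opens)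
    (h : W ≤ f ⁻¹ᵁ U) (c : Γ(Y, U)) : f.appLE U W h c = f'.appLE U W (e ▸ h) c := by
  subst e; rfl

/-- Translation `x ↦ g · x` by a rational point of the group. -/
def tau (a : AlgGrp.Action G X) (g : 𝟙_ (Over S) ⟶ G) : X ⟶ X :=
  lift (toUnit X ≫ g) (𝟙 X) ≫ a.act

lemma comp_tau (a : AlgGrp.Action G X) (g : 𝟙_ (Over S) ⟶ G) {T : Over S} (x : T ⟶ X) :
    x ≫ tau a g = lift (toUnit T ≫ g) x ≫ a.act := by
  simp [tau, comp_lift_assoc]

lemma tau_comp_tau_inv (a : AlgGrp.Action G X) (g : 𝟙_ (Over S) ⟶ G) :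
    tau a g⁻¹ ≫ tau a g = 𝟙 X := by
  rw [comp_tau, tau, GrpObj.comp_inv, Groth.AlgGrp2.lift_act_inv]

lemma tau_inv_comp_tau (a : AlgGrp.Action G X) (g : 𝟙_ (Over S) ⟶ G) :
    tau a g ≫ tau a g⁻¹ = 𝟙 X := by
  rw [comp_tau, tau, GrpObj.comp_inv, Groth.AlgGrp2.lift_inv_act]

lemma lift_act_comp (a : AlgGrp.Action G X) {π : V ⟶ X} {Φ : AlgGrp.Action G V}
    (hπ : Φ.act ≫ π = (G ◁ π) ≫ a.act) {T : Over S} (g : T ⟶ G) (v : T ⟶ V) :
    (lift g v ≫ Φ.act) ≫ π = lift g (v ≫ π) ≫ a.act := by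
  rw [Category.assoc, hπ, lift_whiskerLeft_assoc]

lemma tau_comp (a : AlgGrp.Action G X) {π : V ⟶ X} {Φ : AlgGrp.Action G V}
    (hπ : Φ.act ≫ π = (G ◁ π) ≫ a.act) (g : 𝟙_ (Over S) ⟶ G) {T : Over S} (v : T ⟶ V) :
    (v ≫ tau Φ g) ≫ π = (v ≫ π) ≫ tau a g := by
  rw [comp_tau, lift_act_comp a hπ, comp_tau]

variable {A : Over S}

/-- Acting through `g l g⁻¹` on a translate is translating the action through `l`. -/
lemma conj_act (a : AlgGrp.Action G X) (g : 𝟙_ (Over S) ⟶ G) {l l'' : A ⟶ G}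
    (hl : l'' * (toUnit A ≫ g) = (toUnit A ≫ g) * l) {T : Over S} (u : T ⟶ A) (x : T ⟶ X) :
    lift (u ≫ l'') (x ≫ tau a g) ≫ a.act = (lift (u ≫ l) x ≫ a.act) ≫ tau a g := by
  rw [comp_tau, comp_tau, ← Groth.AlgGrp2.lift_mul_act, ← Groth.AlgGrp2.lift_mul_act]
  have h : (u ≫ l'') * (toUnit T ≫ g) = (toUnit T ≫ g) * (u ≫ l) := by
    have := congrArg (u ≫ ·) hl
    simpa [MonObj.comp_mul] using this
  rw [h]

section

variable (a : AlgGrp.Action G X) (g : 𝟙_ (Over S) ⟶ G) {l l'' : Red.Gm S ⟶ G} [IsMonHom l]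
  [IsMonHom l''] (hl : l'' * (toUnit _ ≫ g) = (toUnit _ ≫ g) * l)

include hl

lemma isLimitPt_tau {T : Over S} {x y : T ⟶ X} (h : HMNum.IsLimitPt a l x y) :
    HMNum.IsLimitPt a l'' (x ≫ tau a g) (y ≫ tau a g) := by
  obtain ⟨φ, hx, hy⟩ := h
  have hφ := φ.2
  have hf : Magnet.MonAct.IsEquivariant (HMNum.gmAct a l) (HMNum.gmAct a l'') (tau a g) := by
    rw [Magnet.MonAct.isEquivariant_iff]
    intro T' u z
    simp only [Magnet.MonAct.lift_restrict_act, Magnet.MonAct.ofAction_act]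
    rw [← Category.assoc]
    simp only [Magnet.MonAct.lift_restrict_act, Magnet.MonAct.ofAction_act]
    exact (conj_act a g hl u z).symm
  refine ⟨⟨φ.1 ≫ tau a g, hφ.comp hf⟩, ?_, ?_⟩
  · rw [← hx]
    simp [Magnet.attrToX]
  · rw [← hy, HMNum.limitPt_eq, HMNum.limitPt_eq]
    exact (Category.assoc _ _ _).symm

lemma isFixedBy_tau {T : Over S} {x : T ⟶ X} (h : HMNum.IsFixedBy a l x) :
    HMNum.IsFixedBy a l'' (x ≫ tau a g) := by
  intro T' t u
  rw [← Category.assoc, conj_act a g hl, h T' t u]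

variable {π : V ⟶ X} {Φ : AlgGrp.Action G V} (A' : GLinSh.LinAtlas π)
  (hπ : Φ.act ≫ π = (G ◁ π) ≫ a.act) (hlin : GLinSh.IsLinearLift a π Φ A'.chart hπ)
  (hS : Subsingleton (𝟙_ (Over S)).left) (hS' : Nonempty (𝟙_ (Over S)).left)

include hlin hS hS'

lemma hasFibreWt_tau {y : 𝟙_ (Over S) ⟶ X} {w : ℤ}
    (h : HMNum.HasFibreWt a π A'.chart Φ l y w) :
    HMNum.HasFibreWt a π A'.chart Φ l'' (y ≫ tau a g) w := by
  obtain ⟨hfix, U, c₀, hc₀, hU, hwt⟩ := h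
  refine ⟨isFixedBy_tau a g hl hfix, ?_⟩
  obtain ⟨p⟩ := hS'
  obtain ⟨U', hpU', c₁, hc₁⟩ := A'.cover ((y ≫ tau a g).left p)
  have hU' : (y ≫ tau a g).left ⁻¹ᵁ U' = ⊤ := by
    ext q
    simp only [Scheme.Hom.mem_preimage, TopologicalSpace.Opens.coe_top, Set.mem_univ, iff_true,
      SetLike.mem_coe]
    rw [Subsingleton.elim q p]
    exact hpU'
  obtain ⟨c, hc⟩ := hlin U U' c₀ c₁ hc₀ hc₁
  refine ⟨U', c₁, hc₁, hU', ?_⟩
  intro T' t u v' hv' hgv'
  -- move `v'` back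
  set v := v' ≫ tau Φ g⁻¹ with hv_def
  have hvv : v ≫ tau Φ g = v' := by
    rw [hv_def, Category.assoc, tau_comp_tau_inv, Category.comp_id]
  have hv : v ≫ π = t ≫ y := by
    rw [hv_def, tau_comp a hπ, hv', Category.assoc, Category.assoc, tau_inv_comp_tau,
      Category.comp_id]
  have hgv : (lift (u ≫ l) v ≫ Φ.act) ≫ π = t ≫ y := by
    rw [lift_act_comp a hπ, hv, hfix T' t u]
  have hE : lift (u ≫ l'') v' ≫ Φ.act = (lift (u ≫ l) v ≫ Φ.act) ≫ tau Φ g := by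
    rw [← hvv, conj_act Φ g hl]
  have hkey := hwt T' t u v hv hgv
  -- the transition function at `(g, y)`
  set q : T' ⟶ G ⊗ X := lift (toUnit T' ≫ g) (t ≫ y) with hq
  have hqle : ⊤ ≤ q.left ⁻¹ᵁ (a.act.left ⁻¹ᵁ U' ⊓ (snd G X).left ⁻¹ᵁ U) := by
    have h1 : q.left ⁻¹ᵁ (a.act.left ⁻¹ᵁ U') = ⊤ := by
      have : q ≫ a.act = t ≫ (y ≫ tau a g) := by
        rw [hq, ← comp_tau, Category.assoc]
      change (q ≫ a.act).left ⁻¹ᵁ U' = ⊤
      rw [this, Over.comp_left, Scheme.Hom.comp_preimage, hU']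
      rfl
    have h2 : q.left ⁻¹ᵁ ((snd G X).left ⁻¹ᵁ U) = ⊤ := by
      have : q ≫ snd G X = t ≫ y := lift_snd _ _
      change (q ≫ snd G X).left ⁻¹ᵁ U = ⊤
      rw [this, Over.comp_left, Scheme.Hom.comp_preimage, hU]
      rfl
    intro z _
    exact ⟨h1.ge trivial, h2.ge trivial⟩
  have key : ∀ (z : T' ⟶ V) (z' : T' ⟶ V) (hz : z ≫ π = t ≫ y)
      (hz' : z' ≫ π = t ≫ (y ≫ tau a g)), z ≫ tau Φ g = z' →
      HMNum.evalFn π c₁ z' (HMNum.top_le_preimage π hU' hz') =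
        q.left.appLE _ ⊤ hqle c * HMNum.evalFn π c₀ z (HMNum.top_le_preimage π hU hz) := by
    intro z z' hz hz' hzz
    set p : T' ⟶ G ⊗ V := lift (toUnit T' ≫ g) z with hp
    have hp1 : p ≫ (G ◁ π) = q := by rw [hp, lift_whiskerLeft, hz]
    have hp2 : p ≫ Φ.act = z' := by rw [hp, ← comp_tau, hzz]
    have hp3 : p ≫ snd G V = z := lift_snd _ _
    have hple : ⊤ ≤ p.left ⁻¹ᵁ GLinSh.liftOpen a π U U' := by
      intro w _
      have := hqle (x := w) trivial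
      rw [← hp1] at this
      exact this
    have hmul := congrArg (fun s => p.left.appLE (GLinSh.liftOpen a π U U') ⊤ hple s) hc
    simp only [map_mul, ← CommRingCat.comp_apply, Scheme.Hom.appLE_comp_appLE] at hmul
    simp only [HMNum.evalFn]
    rw [appLE_congr_hom (congrArg (fun f : T' ⟶ V => f.left) hp2.symm),
      appLE_congr_hom (congrArg (fun f : T' ⟶ V => f.left) hp3.symm),
      appLE_congr_hom (congrArg (fun f : T' ⟶ G ⊗ X => f.left) hp1.symm)]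
    exact hmul
  have k1 := key v v' hv hv' hvv
  have k2 := key (lift (u ≫ l) v ≫ Φ.act) _ hgv hgv' hE.symm
  rw [k1, k2, hkey]
  ring

end

lemma comp_conj {T T' : Over S} (f : T' ⟶ T) (g : 𝟙_ (Over S) ⟶ G) (z : T ⟶ G) :
    f ≫ ((toUnit T ≫ g)⁻¹ * z * (toUnit T ≫ g)) =
      (toUnit T' ≫ g)⁻¹ * (f ≫ z) * (toUnit T' ≫ g) := by
  simp [MonObj.comp_mul, GrpObj.comp_inv]

/-- The conjugate of a homomorphism by a rational point is a homomorphism. -/
lemma isMonHom_conj {A : Over S} [MonObj A] (g : 𝟙_ (Over S) ⟶ G) (l : A ⟶ G) [IsMonHom l] :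
    IsMonHom ((toUnit A ≫ g)⁻¹ * l * (toUnit A ≫ g)) where
  one_hom := by
    rw [comp_conj, IsMonHom.one_hom, show η[G] = (1 : 𝟙_ (Over S) ⟶ G) by simp [Hom.one_def],
      _root_.mul_one, inv_mul_cancel]
  mul_hom := by
    have e : ∀ f h : A ⟶ G, (f ⊗ₘ h) ≫ μ[G] = (fst A A ≫ f) * (snd A A ≫ h) := by
      intro f h
      rw [Hom.mul_def]; congr 1
    rw [comp_conj, IsMonHom.mul_hom, e, e, comp_conj, comp_conj]
    simp [_root_.mul_assoc]

/-- Translation of the numerical function. -/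
theorem isMu_tau {a : AlgGrp.Action G X} (B : GLinSh.LinBun G a) (g : 𝟙_ (Over S) ⟶ G)
    {l l'' : Red.Gm S ⟶ G} [IsMonHom l] [IsMonHom l'']
    (hl : l'' * (toUnit _ ≫ g) = (toUnit _ ≫ g) * l)
    (hS : Subsingleton (𝟙_ (Over S)).left) (hS' : Nonempty (𝟙_ (Over S)).left)
    {x : 𝟙_ (Over S) ⟶ X} {m : ℤ} (h : HMNum.IsMu B l x m) :
    HMNum.IsMu B l'' (x ≫ tau a g) m := by
  obtain ⟨y, hy, hw⟩ := h
  exact ⟨y ≫ tau a g, isLimitPt_tau a g hl hy,
    hasFibreWt_tau a g hl B.atlas B.lift_π B.lift_linear hS hS' hw⟩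

theorem isMu_act_iff {a : AlgGrp.Action G X} (B : GLinSh.LinBun G a) (g : 𝟙_ (Over S) ⟶ G)
    {l l' : Red.Gm S ⟶ G} [IsMonHom l] [IsMonHom l']
    (hl' : l' = (toUnit _ ≫ g)⁻¹ * l * (toUnit _ ≫ g))
    (hS : Subsingleton (𝟙_ (Over S)).left) (hS' : Nonempty (𝟙_ (Over S)).left)
    (x : 𝟙_ (Over S) ⟶ X) (m : ℤ) :
    HMNum.IsMu B l (lift g x ≫ a.act) m ↔ HMNum.IsMu B l' x m := by
  have e : lift g x ≫ a.act = x ≫ tau a g := by
    rw [comp_tau, toUnit_unit, Category.id_comp]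
  constructor
  · intro h
    have h2 := isMu_tau B g⁻¹ (l'' := l') (by rw [hl', GrpObj.comp_inv, mul_inv_cancel_right]) hS hS' h
    have e2 : (lift g x ≫ a.act) ≫ tau a g⁻¹ = x := by
      rw [e, Category.assoc, tau_inv_comp_tau, Category.comp_id]
    rwa [e2] at h2
  · intro h
    rw [e]
    exact isMu_tau B g (l'' := l) (by rw [hl', ← _root_.mul_assoc, ← _root_.mul_assoc, mul_inv_cancel, _root_.one_mul]) hS hS' h

end Groth.GitMu
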