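/- Coordinates of a linearised line bundle evaluated at points (helper50). -/
import Groth.Agent.GitMu.AffPts
import Groth.Agent.GitMu.Translate

set_option autoImplicit false

universe u

open CategoryTheory MonoidalCategory CartesianMonoidalCategory MonObj AlgebraicGeometry Opposite

noncomputable section

namespace Groth.GitMu

variable {S : Scheme.{u}} {G X : Over S} [GrpObj G] {a : AlgGrp.Action G X} (B : GLinSh.LinBun G a)
variable {T : Over S} {U U' : X.left.Opens} {y : Γ(B.V.left, B.π.left ⁻¹ᵁ U)}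
  {y' : Γ(B.V.left, B.π.left ⁻¹ᵁ U')}

/-- the open of `G ⊗ X` on which a linearity factor lives -/
abbrev twoOpen (a : AlgGrp.Action G X) (U U' : X.left.Opens) : (G ⊗ X).left.Opens :=
  a.act.left ⁻¹ᵁ U' ⊓ (snd G X).left ⁻¹ᵁ U

/-- the linearity factor of the lifted action in two charts -/
def theta (hy : y ∈ B.atlas.chart U) (hy' : y' ∈ B.atlas.chart U') : Γ((G ⊗ X).left, twoOpen a U U') :=
  (B.lift_linear U U' y y' hy hy').choose

lemma act_π (g : T ⟶ G) (v : T ⟶ B.V) :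
    (lift g v ≫ B.lift.act) ≫ B.π = lift g (v ≫ B.π) ≫ a.act := by
  rw [Category.assoc, B.lift_π, lift_whiskerLeft_assoc]

lemma lands_twoOpen {g : T ⟶ G} {x : T ⟶ X} (hU : Lands x U) (hU' : Lands (lift g x ≫ a.act) U') :
    Lands (lift g x) (twoOpen a U U') := by
  intro t _
  refine ⟨hU' (x := t) trivial, ?_⟩
  show (lift g x ≫ snd G X).left.base t ∈ U
  rw [lift_snd]
  exact hU (x := t) trivial

lemma lands_liftOpen {g : T ⟶ G} {v : T ⟶ B.V} (hU : Lands (v ≫ B.π) U)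
    (hU' : Lands (lift g (v ≫ B.π) ≫ a.act) U') : Lands (lift g v) (GLinSh.liftOpen a B.π U U') := by
  intro t _
  refine ⟨?_, ?_⟩
  · show (lift g v ≫ (G ◁ B.π) ≫ a.act).left.base t ∈ U'
    rw [lift_whiskerLeft_assoc]
    exact hU' (x := t) trivial
  · show (lift g v ≫ (G ◁ B.π) ≫ snd G X).left.base t ∈ U
    rw [lift_whiskerLeft_assoc, lift_snd]
    exact hU (x := t) trivial

/-- `y'(g v) = θ(g, π v) y(v)` -/
lemma ev_act (hy : y ∈ B.atlas.chart U) (hy' : y' ∈ B.atlas.chart U') (g : T ⟶ G) (v : T ⟶ B.V)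
    (hU : Lands v (B.π.left ⁻¹ᵁ U)) (hU' : Lands (lift g v ≫ B.lift.act) (B.π.left ⁻¹ᵁ U'))
    (hr : Lands (lift g (v ≫ B.π)) (twoOpen a U U')) :
    ev (lift g v ≫ B.lift.act) (B.π.left ⁻¹ᵁ U') hU' y' =
      ev (lift g (v ≫ B.π)) (twoOpen a U U') hr (theta B hy hy') * ev v (B.π.left ⁻¹ᵁ U) hU y := by
  have hU2 : Lands (lift g (v ≫ B.π) ≫ a.act) U' :=
    lands_congr (act_π B g v) hU'
  have hq : Lands (lift g v) (GLinSh.liftOpen a B.π U U') := lands_liftOpen B hU hU2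
  have h1 : Lands (lift g v ≫ snd G B.V) (B.π.left ⁻¹ᵁ U) := lands_congr (lift_snd g v).symm hU
  have h2 : Lands (lift g v ≫ (G ◁ B.π)) (twoOpen a U U') :=
    lands_congr (lift_whiskerLeft g v B.π).symm hr
  have h := congrArg (ev (lift g v) _ hq) (B.lift_linear U U' y y' hy hy').choose_spec
  rw [map_mul, ev_appLE B.lift.act _ hq hU', ev_appLE (G ◁ B.π) _ hq h2, ev_appLE (snd G B.V) _ hq h1] at h
  rw [h, ev_congr (lift_whiskerLeft g v B.π) h2 hr, ev_congr (lift_snd g v) h1 hU]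
  rfl

lemma lands_pre {v : T ⟶ B.V} {x : T ⟶ X} (e : v ≫ B.π = x) (h : Lands x U) : Lands v (B.π.left ⁻¹ᵁ U) :=
  fun _ _ => (lands_congr e.symm h) trivial

/-- the coefficient of a function of weight `n` in a chart -/
def coefW {n : ℕ} {f : Γ(B.V.left, ⊤)} (hf : GLinSh.HasWeight B.atlas.chart n f)
    (hy : y ∈ B.atlas.chart U) : Γ(X.left, U) :=
  (hf U y hy).choose

lemma appTop_eq_of_hasWeight {n : ℕ} {f : Γ(B.V.left, ⊤)} (hf : GLinSh.HasWeight B.atlas.chart n f)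
    (hy : y ∈ B.atlas.chart U) (v : T ⟶ B.V) (hv : Lands v (B.π.left ⁻¹ᵁ U)) (hx : Lands (v ≫ B.π) U) :
    v.left.appTop f = ev (v ≫ B.π) U hx (coefW B hf hy) * ev v (B.π.left ⁻¹ᵁ U) hv y ^ n := by
  have h := congrArg (ev v _ hv) (hf U y hy).choose_spec
  rw [map_mul, map_pow, ev_app B.π hv hx] at h
  rw [← ev_top v (lands_top v) f, ← ev_map (le_top : B.π.left ⁻¹ᵁ U ≤ ⊤) hv (lands_top v)]
  exact h

lemma mem_basicOpen_coefW {n : ℕ} {f : Γ(B.V.left, ⊤)} (hf : GLinSh.HasWeight B.atlas.chart n f)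
    (hy : y ∈ B.atlas.chart U) {p : X.left} (hp : p ∈ U) (hpf : p ∈ GLinSh.nonvanishing B.π f) :
    p ∈ X.left.basicOpen (coefW B hf hy) := by
  obtain ⟨z, hz, rfl⟩ := hpf
  have h1 : z ∈ B.V.left.basicOpen (GLinSh.resTop B.π U f) := by
    rw [GLinSh.resTop, Scheme.basicOpen_res]
    exact ⟨hp, hz⟩
  rw [(hf U y hy).choose_spec, Scheme.basicOpen_mul] at h1
  have h2 := h1.1
  rw [← Scheme.preimage_basicOpen] at h2
  exact h2

lemma lift_one_act (v : T ⟶ B.V) : lift (1 : T ⟶ G) v ≫ B.lift.act = v := by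
  have : lift (1 : T ⟶ G) v ≫ B.lift.act = lift (toUnit T) v ≫ (η[G] ▷ B.V) ≫ B.lift.act := by
    rw [lift_whiskerRight_assoc, Hom.one_def]
  rw [this, B.lift.one_act, lift_leftUnitor_hom]

lemma lift_mul_lift_act (g h : T ⟶ G) (v : T ⟶ B.V) :
    lift (g * h) v ≫ B.lift.act = lift g (lift h v ≫ B.lift.act) ≫ B.lift.act := by
  rw [Hom.mul_def, ← lift_whiskerRight (lift g h) v μ[G], Category.assoc, B.lift.mul_act,
    lift_lift_associator_hom_assoc, lift_whiskerLeft_assoc]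

section Fibre

variable {k : Type u} [Field k]
variable {G₀ X₀ : Over (Spec (CommRingCat.of k))} [GrpObj G₀] {a₀ : AlgGrp.Action G₀ X₀} (B₀ : GLinSh.LinBun G₀ a₀)

/-- points over a rational point with coordinate one -/
theorem exists_fibre_pt {U₀ : X₀.left.Opens} {y₀ : Γ(B₀.V.left, B₀.π.left ⁻¹ᵁ U₀)}
    (hy : y₀ ∈ B₀.atlas.chart U₀) (x : 𝟙_ (Over (Spec (CommRingCat.of k))) ⟶ X₀) (hx : Lands x U₀) :
    ∃ v : 𝟙_ (Over (Spec (CommRingCat.of k))) ⟶ B₀.V, v ≫ B₀.π = x ∧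
      ∀ h : Lands v (B₀.π.left ⁻¹ᵁ U₀), ev v (B₀.π.left ⁻¹ᵁ U₀) h y₀ = 1 := by
  haveI := B₀.atlas.affine
  let p₀ : (𝟙_ (Over (Spec (CommRingCat.of k)))).left := (IsLocalRing.closedPoint k : PrimeSpectrum k)
  have hxp : x.left.base p₀ ∈ U₀ := hx (x := p₀) trivial
  obtain ⟨W, hW, hpW, hWU⟩ := exists_isAffineOpen_mem_and_subset hxp
  have hxW : Lands x W := fun t _ => by
    rwa [show t = p₀ from Subsingleton.elim (α := PrimeSpectrum k) _ _]
  have hW' : IsAffineOpen (B₀.π.left ⁻¹ᵁ W) := hW.preimage B₀.π.left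
  haveI : IsAffine (𝟙_ (Over (Spec (CommRingCat.of k)))).left := inferInstanceAs (IsAffine (Spec (CommRingCat.of k)))
  have hT : IsAffineOpen (⊤ : (𝟙_ (Over (Spec (CommRingCat.of k)))).left.Opens) := isAffineOpen_top _
  haveI : IsIso hT.fromSpec := by
    rw [IsAffineOpen.fromSpec_top]
    infer_instance
  let e := RingEquiv.ofBijective _ (B₀.atlas.coord U₀ y₀ hy W hW hWU)
  let ψ₀ : Γ(B₀.V.left, B₀.π.left ⁻¹ᵁ W) →+* Γ((𝟙_ (Over (Spec (CommRingCat.of k)))).left, ⊤) :=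
    (Polynomial.eval₂RingHom (ev x W hxW) 1).comp e.symm.toRingHom
  let ψ := CommRingCat.ofHom ψ₀
  let vl : (𝟙_ (Over (Spec (CommRingCat.of k)))).left ⟶ B₀.V.left := inv hT.fromSpec ≫ Spec.map ψ ≫ hW'.fromSpec
  have hC : ψ₀.comp (B₀.π.left.app W).hom = ev x W hxW := by
    refine RingHom.ext fun c => ?_
    have : e (Polynomial.C c) = B₀.π.left.app W c := Polynomial.eval₂_C _ _
    show Polynomial.eval₂RingHom (ev x W hxW) 1 (e.symm (B₀.π.left.app W c)) = _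
    rw [← this, e.symm_apply_apply, Polynomial.coe_eval₂RingHom, Polynomial.eval₂_C]
  have hY : ψ₀ (GLinSh.res B₀.π hWU y₀) = 1 := by
    have : e Polynomial.X = GLinSh.res B₀.π hWU y₀ := Polynomial.eval₂_X _ _
    show Polynomial.eval₂RingHom (ev x W hxW) 1 (e.symm _) = _
    rw [← this, e.symm_apply_apply, Polynomial.coe_eval₂RingHom, Polynomial.eval₂_X]
  have hπ : vl ≫ B₀.π.left = x.left := by
    have h1 := IsAffineOpen.SpecMap_appLE_fromSpec B₀.π.left hW hW' le_rfl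
    have h2 := IsAffineOpen.SpecMap_appLE_fromSpec x.left hW hT hxW
    simp only [vl, Category.assoc]
    rw [← h1, ← Spec.map_comp_assoc, IsIso.inv_comp_eq, ← h2]
    congr 2
    ext1
    rw [← Scheme.Hom.app_eq_appLE]
    exact hC
  let v : 𝟙_ (Over (Spec (CommRingCat.of k))) ⟶ B₀.V := Over.homMk vl (by
    show vl ≫ B₀.V.hom = _
    rw [← Over.w B₀.π, reassoc_of% hπ, Over.w x])
  refine ⟨v, Over.OverMorphism.ext hπ, fun h => ?_⟩
  have hvW : Lands v (B₀.π.left ⁻¹ᵁ W) := by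
    intro t _
    show (vl ≫ B₀.π.left).base t ∈ W
    rw [hπ]
    exact hxW (x := t) trivial
  have h3 : v.left.appLE (B₀.π.left ⁻¹ᵁ W) ⊤ hvW = ψ := by
    refine Spec.map_injective ?_
    rw [← cancel_mono hW'.fromSpec, IsAffineOpen.SpecMap_appLE_fromSpec v.left hW' hT hvW]
    simp [v, vl]
  rw [← ev_map (B₀.π.left.preimage_mono hWU) hvW h]
  exact (congrArg (fun φ => (ConcreteCategory.hom φ) (GLinSh.res B₀.π hWU y₀)) h3).trans hY

/-- every rational point carries a point of the bundle with coordinate one in some chart -/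
theorem exists_chart_pt (x : 𝟙_ (Over (Spec (CommRingCat.of k))) ⟶ X₀) :
    ∃ (U₀ : X₀.left.Opens) (y₀ : Γ(B₀.V.left, B₀.π.left ⁻¹ᵁ U₀)) (_ : y₀ ∈ B₀.atlas.chart U₀) (_ : Lands x U₀)
      (v : 𝟙_ (Over (Spec (CommRingCat.of k))) ⟶ B₀.V), v ≫ B₀.π = x ∧
      ∀ h : Lands v (B₀.π.left ⁻¹ᵁ U₀), ev v (B₀.π.left ⁻¹ᵁ U₀) h y₀ = 1 := by
  let p₀ : (𝟙_ (Over (Spec (CommRingCat.of k)))).left := (IsLocalRing.closedPoint k : PrimeSpectrum k)
  obtain ⟨U₀, hU, y₀, hy⟩ := B₀.atlas.cover (x.left.base p₀)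
  have hx : Lands x U₀ := fun t _ => by
    rwa [show t = p₀ from Subsingleton.elim (α := PrimeSpectrum k) _ _]
  obtain ⟨v, h1, h2⟩ := exists_fibre_pt B₀ hy x hx
  exact ⟨U₀, y₀, hy, hx, v, h1, h2⟩

end Fibre

end Groth.GitMu
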