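/- Uniqueness of limits under a one-parameter subgroup, fixedness of the limit (helper91). -/
import Groth.Prelude.Def_HMNum
import Groth.Agent.MiscGeom.MagnetBase
import Groth.Agent.MiscGeom.MagnetPts

set_option autoImplicit false

universe u

open CategoryTheory MonoidalCategory CartesianMonoidalCategory MonObj AlgebraicGeometry Opposite

noncomputable section

namespace Groth.GitMu

variable {S : Scheme.{u}} {G X : Over S} [GrpObj G]

variable {a : AlgGrp.Action G X} {l : Red.Gm S ⟶ G} [IsMonHom l] {T : Over S}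

lemma subsingleton_bot {T' : Over S} (x y : T' ⟶ Magnet.AMonS S ↥(⊥ : AddSubmonoid ℤ)) : x = y := by
  refine Groth.MiscGeom.Mag.pv_ext fun m => ?_
  have : m = 1 := by
    have : Multiplicative.toAdd m = (0 : ↥(⊥ : AddSubmonoid ℤ)) :=
      Subtype.ext (AddSubmonoid.mem_bot.1 (Multiplicative.toAdd m).2)
    exact congrArg Multiplicative.ofAdd this
  rw [this, map_one, map_one]

/-- The value of a point of the attractor on the torus. -/
lemma attr_apply {N : AddSubmonoid ℤ} (φ : (Magnet.attr (HMNum.gmAct a l) N).obj (op T))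
    {T' : Over S} (u : T' ⟶ Red.Gm S) (t : T' ⟶ T) :
    lift (u ≫ Magnet.AMonS.map S N.subtype) t ≫ φ.1 =
      lift (u ≫ l) (t ≫ (Magnet.attrToX (HMNum.gmAct a l) N).app (op T) φ) ≫ a.act := by
  have h := φ.2
  rw [Magnet.MonAct.mem_eqvHom_iff] at h
  have h' := h T' u (1 : T' ⟶ Magnet.AMonS S ↥N) t
  simp only [Magnet.MonAct.lift_restrict_act, Magnet.MonAct.ofAction_act, Magnet.subAct,
    Magnet.MonAct.lift_regular_act, _root_.mul_one] at h'
  refine h'.trans ?_
  rw [Magnet.MonAct.eqvHom.evalAt_app, ← Category.assoc t, comp_lift, ← Category.assoc t, comp_toUnit,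
    Category.comp_id, ← Hom.one_def]

lemma attr_ext [IsSeparated X.hom] (φ₁ φ₂ : (HMNum.attrPlus a l).obj (op T))
    (h : (Magnet.attrToX (HMNum.gmAct a l) HMNum.plus).app (op T) φ₁ =
      (Magnet.attrToX (HMNum.gmAct a l) HMNum.plus).app (op T) φ₂) : φ₁ = φ₂ := by
  refine Subtype.ext (Groth.MiscGeom.Mag.whiskerRight_cancel HMNum.plus.subtype
    Subtype.val_injective ?_)
  have key : ∀ φ : (HMNum.attrPlus a l).obj (op T),
      (Magnet.AMonS.map S HMNum.plus.subtype ▷ T) ≫ φ.1 =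
        lift (fst (Red.Gm S) T ≫ l) (snd (Red.Gm S) T ≫
          (Magnet.attrToX (HMNum.gmAct a l) HMNum.plus).app (op T) φ) ≫ a.act := by
    intro φ
    rw [← attr_apply φ (fst (Red.Gm S) T) (snd (Red.Gm S) T)]
    congr 1
  exact (key φ₁).trans ((congrArg (fun z => lift (fst (Red.Gm S) T ≫ l) (snd (Red.Gm S) T ≫ z) ≫ a.act) h).trans
    (key φ₂).symm)

lemma isLimitPt_unique [IsSeparated X.hom] {x y y' : T ⟶ X} (h : HMNum.IsLimitPt a l x y)
    (h' : HMNum.IsLimitPt a l x y') : y = y' := by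
  obtain ⟨φ, hx, hy⟩ := h
  obtain ⟨φ', hx', hy'⟩ := h'
  rw [← hy, ← hy', attr_ext φ φ' (hx.trans hx'.symm)]

lemma isFixedBy_of_isLimitPt {x y : T ⟶ X} (h : HMNum.IsLimitPt a l x y) :
    HMNum.IsFixedBy a l y := by
  obtain ⟨φ, hx, hy⟩ := h
  subst hy
  intro T' t g
  rw [HMNum.limitPt, ← attr_apply,
    subsingleton_bot (g ≫ Magnet.AMonS.map S (⊥ : AddSubmonoid ℤ).subtype)
      (toUnit T' ≫ η[Magnet.AMonS S ↥(⊥ : AddSubmonoid ℤ)])]
  rw [Magnet.MonAct.eqvHom.evalAt_app, ← Category.assoc t, comp_lift, ← Category.assoc t, comp_toUnit,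
    Category.comp_id]

lemma isLimitPt_self {y : T ⟶ X} (h : HMNum.IsFixedBy a l y) : HMNum.IsLimitPt a l y y := by
  refine ⟨⟨snd (HMNum.A1 S) T ≫ y, ?_⟩, ?_, ?_⟩
  · rw [Magnet.MonAct.mem_eqvHom_iff]
    intro T' g b t
    simp only [Magnet.MonAct.lift_restrict_act, Magnet.MonAct.ofAction_act, lift_snd_assoc]
    exact (h T' t g).symm
  · simp [Magnet.attrToX]
  · rw [HMNum.limitPt_eq]
    simp

end Groth.GitMu
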