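/- The arc `k[[u]] ⊂ k((u))` at the origin of the affine line, as `k`-algebras (helper50). -/
import Mathlib.RingTheory.LaurentSeries
import Mathlib.RingTheory.PowerSeries.Inverse
import Mathlib.Data.Set.Finite.Lattice

set_option autoImplicit false

universe u

noncomputable section

namespace Groth.GitMu.Ser

variable (k : Type u) [Field k]

/-- `k[[u]]` -/
abbrev O : Type u := PowerSeries k

/-- `k((u))` -/
abbrev K : Type u := LaurentSeries k

variable {k}

lemma algebraMap_K (c : k) :
    algebraMap k (K k) c = algebraMap (O k) (K k) (PowerSeries.C c) := rfl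

lemma algebraMap_K_eq_single (c : k) : algebraMap k (K k) c = HahnSeries.single 0 c := by
  rw [algebraMap_K]; exact HahnSeries.ofPowerSeries_C c

lemma coeff_algebraMap_mul (c : k) (x : K k) (i : ℤ) :
    (algebraMap k (K k) c * x).coeff i = c * x.coeff i := by
  rw [algebraMap_K_eq_single, HahnSeries.coeff_single_zero_mul]

variable (k)

/-- the inclusion `k[[u]] → k((u))` -/
def iota : O k →ₐ[k] K k where
  toRingHom := algebraMap (O k) (K k)
  commutes' _ := rfl

/-- the value at the origin -/
def res : O k →ₐ[k] k where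
  toRingHom := PowerSeries.constantCoeff
  commutes' c := PowerSeries.constantCoeff_C c

variable {k}

lemma iota_apply (a : O k) : iota k a = (a : K k) := rfl

lemma iota_injective : Function.Injective (iota k) := IsFractionRing.injective (O k) (K k)

lemma res_apply (a : O k) : res k a = PowerSeries.constantCoeff a := rfl

lemma isUnit_of_res_ne_zero {a : O k} (h : res k a ≠ 0) : IsUnit a :=
  PowerSeries.isUnit_iff_constantCoeff.2 (isUnit_iff_ne_zero.2 h)

lemma res_surjective : Function.Surjective (res k) := fun c => ⟨PowerSeries.C c, PowerSeries.constantCoeff_C c⟩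

instance : IsLocalHom (res k).toRingHom :=
  ⟨fun a ha => isUnit_of_res_ne_zero (isUnit_iff_ne_zero.1 ha)⟩

variable (k)

/-- the coordinate `u` as a unit of `k((u))` -/
def u : (K k)ˣ :=
  Units.mk0 (HahnSeries.single (1 : ℤ) (1 : k)) (HahnSeries.single_ne_zero one_ne_zero)

variable {k}

lemma val_u : (u k : K k) = iota k PowerSeries.X :=
  (HahnSeries.ofPowerSeries_X (Γ := ℤ) (R := k)).symm

lemma val_u_zpow (e : ℤ) : ((u k ^ e : (K k)ˣ) : K k) = HahnSeries.single e (1 : k) := by
  rw [Units.val_zpow_eq_zpow_val]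
  exact (RatFunc.single_zpow e).symm

lemma coeff_u_zpow_mul (e : ℤ) (x : K k) (i : ℤ) :
    (((u k ^ e : (K k)ˣ) : K k) * x).coeff i = x.coeff (i - e) := by
  rw [val_u_zpow]
  have := HahnSeries.coeff_single_mul_add (r := (1 : k)) (b := e) (x := x) (a := i - e)
  rwa [sub_add_cancel, _root_.one_mul] at this

lemma coeff_iota_neg (a : O k) {i : ℤ} (hi : i < 0) : (iota k a).coeff i = 0 :=
  (PowerSeries.coeff_coe a i).trans (if_pos hi)

lemma coeff_iota_zero (a : O k) : (iota k a).coeff 0 = res k a :=
  (PowerSeries.coeff_coe a 0).trans (by simp [res_apply])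

/-- normal form of a nonzero series -/
lemma exists_eq_zpow_mul {x : K k} (hx : x ≠ 0) :
    ∃ (e : ℤ) (a : O k), res k a ≠ 0 ∧ x = ((u k ^ e : (K k)ˣ) : K k) * iota k a := by
  refine ⟨x.order, x.powerSeriesPart, ?_, ?_⟩
  · rw [res_apply, ← PowerSeries.coeff_zero_eq_constantCoeff_apply, LaurentSeries.powerSeriesPart_coeff,
      Nat.cast_zero, add_zero]
    exact fun h => hx (HahnSeries.coeff_order_eq_zero.1 h)
  · rw [val_u_zpow]
    exact (LaurentSeries.single_order_mul_powerSeriesPart x).symm

/-- rescaling `u ↦ a u` of `k[[u]]` -/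
def sigO (a : k) : O k →ₐ[k] O k where
  toRingHom := PowerSeries.rescale a
  commutes' c := PowerSeries.ext fun n => by
    change PowerSeries.coeff n (PowerSeries.rescale a (PowerSeries.C c)) = PowerSeries.coeff n (PowerSeries.C c)
    rw [PowerSeries.coeff_rescale, PowerSeries.coeff_C]
    split_ifs with h <;> simp [h]

lemma res_sigO (a : k) (x : O k) : res k (sigO a x) = res k x := by
  show PowerSeries.constantCoeff (PowerSeries.rescale a x) = PowerSeries.constantCoeff x
  rw [← PowerSeries.coeff_zero_eq_constantCoeff_apply, PowerSeries.coeff_rescale, pow_zero, _root_.one_mul,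
    PowerSeries.coeff_zero_eq_constantCoeff_apply]

lemma sigO_X (a : k) : sigO a PowerSeries.X = PowerSeries.C a * PowerSeries.X := PowerSeries.rescale_X a

lemma sigO_injective (a : kˣ) : Function.Injective (sigO (a : k)) := by
  intro x y h
  refine PowerSeries.ext fun n => ?_
  have := congrArg (PowerSeries.coeff n) h
  change PowerSeries.coeff n (PowerSeries.rescale (a : k) x) = PowerSeries.coeff n (PowerSeries.rescale (a : k) y) at this
  rw [PowerSeries.coeff_rescale, PowerSeries.coeff_rescale] at this
  exact mul_left_cancel₀ (pow_ne_zero _ a.ne_zero) this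

lemma iota_sigO_injective (a : kˣ) :
    Function.Injective ((iota k).toRingHom.comp (sigO (a : k)).toRingHom) :=
  iota_injective.comp (sigO_injective a)

/-- rescaling `u ↦ a u` of `k((u))` -/
def sigK (a : kˣ) : K k →ₐ[k] K k where
  toRingHom := IsFractionRing.lift (iota_sigO_injective a)
  commutes' c := by
    change IsFractionRing.lift (iota_sigO_injective a) (algebraMap (O k) (K k) (PowerSeries.C c)) =
      algebraMap (O k) (K k) (PowerSeries.C c)
    rw [IsFractionRing.lift_algebraMap]
    exact congrArg (algebraMap (O k) (K k)) ((sigO (a : k)).commutes c)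

lemma sigK_iota (a : kˣ) (x : O k) : sigK a (iota k x) = iota k (sigO (a : k) x) :=
  IsFractionRing.lift_algebraMap (iota_sigO_injective a) x

lemma sigK_u (a : kˣ) : sigK a (u k : K k) = algebraMap k (K k) a * (u k : K k) := by
  rw [val_u, sigK_iota, sigO_X, map_mul]
  rfl

/-- if `σ_a(x) = θ x` with `θ` integral of residue `a^w` for all `a`, then `x = u^w ·` unit -/
theorem exists_eq_zpow_mul_of_scaling [Infinite k] {x : K k} (hx : x ≠ 0) {w : ℤ} (θ : kˣ → O k)
    (hθ : ∀ a, sigK a x = iota k (θ a) * x) (hw : ∀ a : kˣ, res k (θ a) = ((a ^ w : kˣ) : k)) :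
    ∃ b : O k, res k b ≠ 0 ∧ x = ((u k ^ w : (K k)ˣ) : K k) * iota k b := by
  obtain ⟨e, b, hb, hxe⟩ := exists_eq_zpow_mul hx
  suffices he : e = w by subst he; exact ⟨b, hb, hxe⟩
  have key : ∀ a : kˣ, a ^ e = a ^ w := by
    intro a
    have h1 : Units.map (sigK a).toRingHom.toMonoidHom (u k) =
        Units.map (algebraMap k (K k)).toMonoidHom a * u k := Units.ext (sigK_u a)
    have h2 : sigK a x = algebraMap k (K k) ((a ^ e : kˣ) : k) * ((u k ^ e : (K k)ˣ) : K k) *
        iota k (sigO (a : k) b) := by
      rw [hxe, map_mul, sigK_iota]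
      congr 1
      have := congrArg (fun z : (K k)ˣ => ((z ^ e : (K k)ˣ) : K k)) h1
      simp only [← map_zpow, mul_zpow, Units.val_mul, Units.coe_map] at this
      exact this
    rw [hθ a, hxe] at h2
    have h3 : iota k (θ a * b) = algebraMap k (K k) ((a ^ e : kˣ) : k) * iota k (sigO (a : k) b) := by
      refine mul_left_cancel₀ (u k ^ e : (K k)ˣ).ne_zero ?_
      rw [map_mul]
      linear_combination h2
    have h4 : θ a * b = PowerSeries.C ((a ^ e : kˣ) : k) * sigO (a : k) b := by
      refine iota_injective ?_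
      rw [h3, map_mul]
      rfl
    have h5 := congrArg (res k) h4
    rw [map_mul, map_mul, hw, res_sigO, res_apply (PowerSeries.C _), PowerSeries.constantCoeff_C] at h5
    exact Units.ext (mul_right_cancel₀ hb h5).symm
  by_contra hne
  have hd : (e - w).natAbs ≠ 0 := by omega
  have h1 : ∀ a : kˣ, (a : k) ^ (e - w).natAbs = 1 := by
    intro a
    have h : a ^ (e - w) = 1 := by rw [zpow_sub, key, mul_inv_cancel]
    rw [← Units.val_pow_eq_pow_val, pow_natAbs_eq_one.2 h, Units.val_one]
  have hfin : Set.Finite {x : k | x ^ (e - w).natAbs = 1} := by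
    classical
    refine Set.Finite.subset (Polynomial.nthRoots (e - w).natAbs (1 : k)).toFinset.finite_toSet fun x hx => ?_
    simp [Polynomial.mem_nthRoots (Nat.pos_of_ne_zero hd)]
    exact hx
  refine Set.infinite_univ (α := k) ((hfin.union (Set.finite_singleton 0)).subset fun x _ => ?_)
  by_cases hx0 : x = 0
  · exact Or.inr hx0
  · exact Or.inl (h1 (Units.mk0 x hx0))

end Groth.GitMu.Ser
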