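/- The numerical function as an order of vanishing along the orbit arc (helper50). -/
import Groth.Agent.GitMu.Series
import Groth.Agent.GitMu.Eval
import Groth.Agent.GitMu.Limit

set_option autoImplicit false

universe u

open CategoryTheory MonoidalCategory CartesianMonoidalCategory MonObj AlgebraicGeometry Opposite
open CoactBr (sp pt)

noncomputable section

namespace Groth.GitMu

variable {k : Type u} [Field k]


variable {G X : Over (Spec (CommRingCat.of k))} [GrpObj G] {a : AlgGrp.Action G X} (B : GLinSh.LinBun G a)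

/-- the arc `u ↦ l(u) v` as a point of the bundle with values in `k((u))` -/
def arc (l : Red.Gm (Spec (CommRingCat.of k)) ⟶ G) (v : 𝟙_ (Over (Spec (CommRingCat.of k))) ⟶ B.V) : sp k (Ser.K k) ⟶ B.V :=
  lift (gpt (Ser.u k) ≫ l) (toUnit _ ≫ v) ≫ B.lift.act

/-- the series `f(l(u) v)` -/
def arcFn (l : Red.Gm (Spec (CommRingCat.of k)) ⟶ G) (v : 𝟙_ (Over (Spec (CommRingCat.of k))) ⟶ B.V) (f : Γ(B.V.left, ⊤)) : Ser.K k :=
  gam k (Ser.K k) ((arc B l v).left.appTop f)

/-- `f` is non-zero on the fibre over the limit: **the order of `f(l(u) v)` is `-n μ`**, and at least that in general -/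
theorem arcFn_bounds_of_ne_zero [Infinite k] (l : Red.Gm (Spec (CommRingCat.of k)) ⟶ G) [IsMonHom l] {x : 𝟙_ (Over (Spec (CommRingCat.of k))) ⟶ X} {m : ℤ}
    (h : HMNum.IsMu B l x m) {U' : X.left.Opens} {y' : Γ(B.V.left, B.π.left ⁻¹ᵁ U')}
    (hy' : y' ∈ B.atlas.chart U') (v : 𝟙_ (Over (Spec (CommRingCat.of k))) ⟶ B.V) (hv : v ≫ B.π = x) (hx : Lands x U')
    (hl0 : Lands v (B.π.left ⁻¹ᵁ U')) (hvne : ev v (B.π.left ⁻¹ᵁ U') hl0 y' ≠ 0) :
    (∀ (n : ℕ) (f : Γ(B.V.left, ⊤)), GLinSh.HasWeight B.atlas.chart n f →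
        ∀ i : ℤ, i < -((n : ℤ) * m) → (arcFn B l v f).coeff i = 0) ∧
      ∃ p : X.left, ∀ (n : ℕ) (f : Γ(B.V.left, ⊤)), GLinSh.HasWeight B.atlas.chart n f →
        p ∈ GLinSh.nonvanishing B.π f → (arcFn B l v f).coeff (-((n : ℤ) * m)) ≠ 0 := by
  obtain ⟨y₀, hy₀, hfixed, U, y, hy, hU, hwt⟩ := h
  obtain ⟨φ, hφx, hφy⟩ := hy₀
  have hUy : Lands y₀ U := le_of_eq hU.symm
  let O := Ser.O k
  let K := Ser.K k
  -- the arc in `X` with values in `k[[u]]`
  let φO : sp k O ⟶ X := lift (aPt PowerSeries.X) (toUnit _) ≫ φ.1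
  have hres : pt (Ser.res k) ≫ φO = toUnit _ ≫ y₀ := by
    rw [← hφy, HMNum.limitPt_eq]
    show pt (Ser.res k) ≫ lift (aPt PowerSeries.X) (toUnit _) ≫ φ.1 = _
    rw [← Category.assoc, comp_lift, comp_aPt, comp_toUnit, Ser.res_apply, PowerSeries.constantCoeff_X, aPt_zero,
      ← Category.assoc (toUnit (sp k k)) (lift _ _), comp_lift]
    congr 2
  have hgen : pt (Ser.iota k) ≫ φO = lift (gpt (Ser.u k) ≫ l) (toUnit _ ≫ x) ≫ a.act := by
    show pt (Ser.iota k) ≫ lift (aPt PowerSeries.X) (toUnit _) ≫ φ.1 = _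
    rw [← Category.assoc, comp_lift, comp_aPt, comp_toUnit, ← Ser.val_u, ← gpt_incl, ← hφx]
    exact attr_apply φ (gpt (Ser.u k)) (toUnit _)
  have hφU : Lands φO U := lands_of_res (Ser.res k) (lands_congr hres.symm (lands_toUnit hUy _))
  let p := arc B l v
  have hpπ : p ≫ B.π = pt (Ser.iota k) ≫ φO := by
    rw [hgen, show p = lift (gpt (Ser.u k) ≫ l) (toUnit _ ≫ v) ≫ B.lift.act from rfl, act_π, Category.assoc, hv]
  have hpU : Lands p (B.π.left ⁻¹ᵁ U) := lands_pre B hpπ (hφU.comp _)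
  let ev₁ : K := val p (B.π.left ⁻¹ᵁ U) hpU y
  -- `ev₁` is nonzero
  have hev₁ : ev₁ ≠ 0 := by
    intro h0
    let g : sp k K ⟶ G := (gpt (Ser.u k) ≫ l)⁻¹
    have e : lift g p ≫ B.lift.act = toUnit _ ≫ v := by
      show lift g (lift (gpt (Ser.u k) ≫ l) (toUnit _ ≫ v) ≫ B.lift.act) ≫ B.lift.act = _
      rw [← lift_mul_lift_act, inv_mul_cancel, lift_one_act]
    have hl : Lands (lift g p ≫ B.lift.act) (B.π.left ⁻¹ᵁ U') := lands_congr e.symm (hl0.comp _)
    have hr : Lands (lift g (p ≫ B.π)) (twoOpen a U U') :=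
      lands_twoOpen hpU (lands_congr (act_π B g p) hl)
    have h1 := congrArg (gam k K) (ev_act B hy hy' g p hpU hl hr)
    rw [ev_congr e hl (hl0.comp _), ev_comp (toUnit _) hl0 (hl0.comp _), map_mul] at h1
    rw [show gam k K (ev p (B.π.left ⁻¹ᵁ U) hpU y) = 0 from h0, mul_zero,
      show toUnit (sp k K) = pt (Algebra.ofId k K) ≫ toUnit (sp k k) from toUnit_unique _ _, Over.comp_left,
      Scheme.Hom.comp_appTop, CommRingCat.comp_apply, gam_appTop] at h1
    have h2 : (toUnit (sp k k)).left.appTop (ev v (B.π.left ⁻¹ᵁ U') hl0 y') = 0 :=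
      (gam k k).map_eq_zero_iff.1 ((map_eq_zero (Algebra.ofId k K).toRingHom).1 h1)
    haveI : IsIso (toUnit (sp k k)).left := (Over.forget _).map_isIso (toUnit (sp k k))
    haveI : IsIso (toUnit (sp k k)).left.appTop := inferInstanceAs (IsIso ((toUnit (sp k k)).left.app ⊤))
    refine hvne ((ConcreteCategory.bijective_of_isIso (toUnit (sp k k)).left.appTop).1 ?_)
    rw [h2, map_zero]
  -- scaling
  obtain ⟨vy, hvy, hvy1⟩ := exists_fibre_pt B hy y₀ hUy
  have hscale : ∀ c : kˣ, ∃ θ : O, Ser.sigK c ev₁ = Ser.iota k θ * ev₁ ∧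
      Ser.res k θ = ((c ^ (-m) : kˣ) : k) := by
    intro c
    let gO : sp k O ⟶ G := gpt (Units.map (algebraMap k O).toMonoidHom c) ≫ l
    let gk : sp k k ⟶ G := gpt c ≫ l
    let gK : sp k K ⟶ G := gpt (Units.map (algebraMap k K).toMonoidHom c) ≫ l
    have hgk : pt (Ser.res k) ≫ gO = gk := by
      rw [← Category.assoc, comp_gpt]
      congr 2
    have hgK : pt (Ser.iota k) ≫ gO = gK := by
      rw [← Category.assoc, comp_gpt]
      congr 2
    have hfix : lift gk (toUnit _ ≫ y₀) ≫ a.act = toUnit _ ≫ y₀ := hfixed _ (toUnit _) (gpt c)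
    have hresr : pt (Ser.res k) ≫ lift gO φO = lift gk (toUnit _ ≫ y₀) := by rw [comp_lift, hgk, hres]
    have hφU' : Lands (lift gO φO ≫ a.act) U :=
      lands_of_res (Ser.res k) (lands_congr
        (by rw [← Category.assoc, hresr, hfix]) (lands_toUnit hUy _))
    have hrO : Lands (lift gO φO) (twoOpen a U U) := lands_twoOpen hφU hφU'
    refine ⟨val (lift gO φO) (twoOpen a U U) hrO (theta B hy hy), ?_, ?_⟩
    · have e : pt (Ser.sigK c) ≫ p = lift gK p ≫ B.lift.act := by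
        show pt (Ser.sigK c) ≫ lift (gpt (Ser.u k) ≫ l) (toUnit _ ≫ v) ≫ B.lift.act =
          lift gK (lift (gpt (Ser.u k) ≫ l) (toUnit _ ≫ v) ≫ B.lift.act) ≫ B.lift.act
        rw [← Category.assoc, comp_lift, ← Category.assoc (pt _) (gpt _), comp_gpt,
          ← Category.assoc (pt _) (toUnit _), comp_toUnit, ← lift_mul_lift_act]
        show lift (gpt _ ≫ l) _ ≫ _ = lift ((gpt _ ≫ l) * (gpt _ ≫ l)) _ ≫ _
        rw [← MonObj.mul_comp, ← gpt_mul]
        congr 4
        exact Units.ext (Ser.sigK_u c)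
      have hl : Lands (lift gK p ≫ B.lift.act) (B.π.left ⁻¹ᵁ U) := lands_congr e (hpU.comp _)
      have er : lift gK (p ≫ B.π) = pt (Ser.iota k) ≫ lift gO φO := by rw [comp_lift, hgK, hpπ]
      have hr : Lands (lift gK (p ≫ B.π)) (twoOpen a U U) := lands_congr er.symm (hrO.comp _)
      show Ser.sigK c (val p (B.π.left ⁻¹ᵁ U) hpU y) = _
      rw [← val_comp (Ser.sigK c) hpU (hpU.comp _), val_congr e _ hl, val_def, ev_act B hy hy gK p hpU hl hr,
        map_mul, ev_congr er hr (hrO.comp _), ← val_def, val_comp (Ser.iota k) hrO]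
      rfl
    · have hrk : Lands (pt (Ser.res k) ≫ lift gO φO) (twoOpen a U U) := hrO.comp _
      rw [← val_comp (Ser.res k) hrO hrk]
      have hvk : (toUnit (sp k k) ≫ vy) ≫ B.π = toUnit _ ≫ y₀ := by rw [Category.assoc, hvy]
      have hgvk : (lift gk (toUnit (sp k k) ≫ vy) ≫ B.lift.act) ≫ B.π = toUnit _ ≫ y₀ := by
        rw [act_π, hvk, hfix]
      have hl0 : Lands vy (B.π.left ⁻¹ᵁ U) := lands_pre B hvy hUy
      have hl : Lands (lift gk (toUnit (sp k k) ≫ vy) ≫ B.lift.act) (B.π.left ⁻¹ᵁ U) :=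
        lands_pre B hgvk (hUy.comp _)
      have er : lift gk ((toUnit (sp k k) ≫ vy) ≫ B.π) = pt (Ser.res k) ≫ lift gO φO := by rw [hresr, hvk]
      have h1 := congrArg (gam k k) (hwt (sp k k) (toUnit _) (gpt c) (toUnit _ ≫ vy) hvk hgvk)
      have h2 : gam k k (ev (toUnit (sp k k) ≫ vy) (B.π.left ⁻¹ᵁ U) (hl0.comp _) y) = 1 := by
        rw [ev_comp (toUnit _) hl0, hvy1 hl0, map_one, map_one]
      change gam k k (ev (lift gk (toUnit (sp k k) ≫ vy) ≫ B.lift.act) (B.π.left ⁻¹ᵁ U) hl y) =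
        gam k k (_ * ev (toUnit (sp k k) ≫ vy) (B.π.left ⁻¹ᵁ U) (hl0.comp _) y) at h1
      rw [ev_act B hy hy gk _ (hl0.comp _) hl (lands_congr er.symm hrk), map_mul, map_mul, h2, _root_.mul_one,
        _root_.mul_one, unitOfPt_gpt_zpow, ev_congr er _ hrk] at h1
      exact h1
  choose θ hθ hθw using hscale
  obtain ⟨b, hb, hev₁b⟩ := Ser.exists_eq_zpow_mul_of_scaling hev₁ θ hθ hθw
  -- the value of a function of weight `n`
  have hval : ∀ (n : ℕ) (f : Γ(B.V.left, ⊤)) (hf : GLinSh.HasWeight B.atlas.chart n f),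
      arcFn B l v f = ((Ser.u k ^ (-((n : ℤ) * m)) : Kˣ) : K) *
        Ser.iota k (val φO U hφU (coefW B hf hy) * b ^ n) := by
    intro n f hf
    have hx' : Lands (p ≫ B.π) U := hpU
    show gam k K (p.left.appTop f) = _
    rw [appTop_eq_of_hasWeight B hf hy p hpU hx', map_mul, map_pow, ← val_def, val_congr hpπ hx' (hφU.comp _),
      val_comp (Ser.iota k) hφU, show gam k K (ev p (B.π.left ⁻¹ᵁ U) hpU y) = ev₁ from rfl, hev₁b, mul_pow, map_mul,
      map_pow, ← Units.val_pow_eq_pow_val, ← zpow_natCast, ← zpow_mul, show -m * (n : ℤ) = -((n : ℤ) * m) by ring]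
    exact mul_left_comm _ _ _
  refine ⟨fun n f hf i hi => ?_, y₀.left.base (IsLocalRing.closedPoint k : PrimeSpectrum k), fun n f hf hp => ?_⟩
  · rw [hval n f hf, Ser.coeff_u_zpow_mul, Ser.coeff_iota_neg _ (by omega)]
  · have hD : Lands φO (X.left.basicOpen (coefW B hf hy)) := by
      refine lands_of_res (Ser.res k) (lands_congr hres.symm (lands_toUnit ?_ _))
      intro t _
      rw [show t = (IsLocalRing.closedPoint k : PrimeSpectrum k) from Subsingleton.elim (α := PrimeSpectrum k) _ _]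
      exact mem_basicOpen_coefW B hf hy (hUy (x := (IsLocalRing.closedPoint k : PrimeSpectrum k)) trivial) hp
    have hunit : IsUnit (val φO U hφU (coefW B hf hy)) := by
      rw [← val_map (X.left.basicOpen_le (coefW B hf hy)) hD hφU]
      exact (RingedSpace.isUnit_res_basicOpen X.left.toRingedSpace (coefW B hf hy)).map _
    rw [hval n f hf, Ser.coeff_u_zpow_mul, sub_self, Ser.coeff_iota_zero, map_mul, map_pow]
    exact mul_ne_zero (hunit.map (Ser.res k)).ne_zero (pow_ne_zero _ hb)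

end Groth.GitMu
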