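/- The numerical function on a torus is the maximum of finitely many linear forms (helper50). -/
import Groth.Agent.GitMu.Order
import Groth.Agent.GitMu.Translate
import Groth.Agent.AlgGrp1.TorusSplit
import Groth.Agent.Reductive2.TorusBasic
import Mathlib.LinearAlgebra.LinearIndependent.Basic

set_option autoImplicit false

universe u

open CategoryTheory MonoidalCategory CartesianMonoidalCategory MonObj AlgebraicGeometry Opposite
open CoactBr (sp pt)
open scoped TensorProduct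

noncomputable section

namespace Groth.GitMu

variable {k : Type u} [Field k]


/-- the lattice -/
abbrev Lat (r : ℕ) : Type := Multiplicative (Fin r → ℤ)

/-- the coordinate ring of the split torus -/
abbrev MA (F : Type u) [Field F] (r : ℕ) : Type u := MonoidAlgebra F (Lat r)

variable {T : Over (Spec (CommRingCat.of k))} [GrpObj T] {r : ℕ} (e : sp k (MA k r) ≅ T) [IsMonHom e.hom]
variable {R R' : Type u} [CommRing R] [CommRing R'] [Algebra k R] [Algebra k R']

/-- the algebra map of a point of the torus -/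
def algOf (p : sp k R ⟶ T) : MA k r →ₐ[k] R :=
  (Groth.Misc8.CoactInertia.pt_surjective (p ≫ e.inv)).choose

lemma pt_algOf (p : sp k R ⟶ T) : pt (algOf e p) = p ≫ e.inv :=
  (Groth.Misc8.CoactInertia.pt_surjective (p ≫ e.inv)).choose_spec

/-- the character values of a point of the torus -/
def chr (p : sp k R ⟶ T) : Lat r →* R :=
  (algOf e p).toRingHom.toMonoidHom.comp (MonoidAlgebra.of k (Lat r))

lemma chr_apply (p : sp k R ⟶ T) (χ : Lat r) : chr e p χ = algOf e p (MonoidAlgebra.single χ 1) := rfl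

lemma algOf_comp (ψ : R →ₐ[k] R') (p : sp k R ⟶ T) : algOf e (pt ψ ≫ p) = ψ.comp (algOf e p) := by
  refine CoactBr.pt_injective ?_
  rw [pt_algOf, CoactBr.pt_comp, pt_algOf, Category.assoc]

lemma chr_comp (ψ : R →ₐ[k] R') (p : sp k R ⟶ T) (χ : Lat r) : chr e (pt ψ ≫ p) χ = ψ (chr e p χ) := by
  rw [chr_apply, algOf_comp]; rfl

lemma chr_mul (p q : sp k R ⟶ T) (χ : Lat r) : chr e (p * q) χ = chr e p χ * chr e q χ := by
  have h : algOf e (p * q) =
      (Algebra.TensorProduct.lift (algOf e p) (algOf e q) fun _ _ => .all _ _).comp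
        (Bialgebra.comulAlgHom k (MA k r)) := by
    refine CoactBr.pt_injective ?_
    rw [pt_algOf, ← CoactBr.pt_mul_pt, pt_algOf, pt_algOf, MonObj.mul_comp]
  rw [chr_apply, h, AlgHom.comp_apply, Bialgebra.comulAlgHom_apply, MonoidAlgebra.comul_single]
  simp [chr_apply]

lemma chr_ext {p q : sp k R ⟶ T} (h : ∀ χ, chr e p χ = chr e q χ) : p = q := by
  rw [← cancel_mono e.inv, ← pt_algOf, ← pt_algOf]
  congr 1
  exact MonoidAlgebra.algHom_ext h (Subsingleton.elim _ _)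

lemma chr_ne_zero {L : Type u} [Field L] [Algebra k L] (p : sp k L ⟶ T) (χ : Lat r) : chr e p χ ≠ 0 :=
  ((Group.isUnit χ).map (chr e p)).ne_zero

/-- the point of the torus with given character values -/
def tPt (χ₀ : Lat r →* R) : sp k R ⟶ T := pt (MonoidAlgebra.lift k R (Lat r) χ₀) ≫ e.hom

lemma chr_tPt (χ₀ : Lat r →* R) (χ : Lat r) : chr e (tPt e χ₀) χ = χ₀ χ := by
  have : algOf e (tPt e χ₀) = MonoidAlgebra.lift k R (Lat r) χ₀ := by
    refine CoactBr.pt_injective ?_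
    rw [pt_algOf, tPt, Category.assoc, e.hom_inv_id, Category.comp_id]
  rw [chr_apply, this]
  simp

variable {G X : Over (Spec (CommRingCat.of k))} [GrpObj G] {a : AlgGrp.Action G X} (B : GLinSh.LinBun G a) (i : T ⟶ G)

/-- translating a point of the bundle -/
def orb (t : sp k R ⟶ T) (w : sp k R ⟶ B.V) : sp k R ⟶ B.V := lift (t ≫ i) w ≫ B.lift.act

/-- an element of `k[Λ] ⊗ A` is a finite sum of monomials -/
lemma exists_sum_tmul {A : Type u} [CommRing A] [Algebra k A] (h : MA k r ⊗[k] A) :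
    ∃ c : Lat r →₀ A, h = c.sum fun χ x => MonoidAlgebra.single χ (1 : k) ⊗ₜ[k] x := by
  induction h with
  | zero => exact ⟨0, by simp⟩
  | add x y hx hy =>
    obtain ⟨c, rfl⟩ := hx
    obtain ⟨d, rfl⟩ := hy
    exact ⟨c + d, (Finsupp.sum_add_index' (fun χ => TensorProduct.tmul_zero _ _)
      (fun χ x y => TensorProduct.tmul_add _ _ _)).symm⟩
  | tmul p x =>
    induction p using MonoidAlgebra.induction_linear with
    | zero => exact ⟨0, by simp⟩
    | add p q hp hq =>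
      obtain ⟨c, hc⟩ := hp
      obtain ⟨d, hd⟩ := hq
      exact ⟨c + d, by
        rw [TensorProduct.add_tmul, hc, hd]
        exact (Finsupp.sum_add_index' (fun χ => TensorProduct.tmul_zero _ _)
          (fun χ x y => TensorProduct.tmul_add _ _ _)).symm⟩
    | single χ b =>
      refine ⟨Finsupp.single χ (b • x), ?_⟩
      rw [Finsupp.sum_single_index (h := fun χ x => MonoidAlgebra.single χ (1 : k) ⊗ₜ[k] x)
        (TensorProduct.tmul_zero _ _), ← TensorProduct.smul_tmul,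
        MonoidAlgebra.smul_single', _root_.mul_one]

/-- the pullback of a function under translation of an affine piece has finite support -/
theorem exists_coeffs {A : Type u} [CommRing A] [Algebra k A] (j : sp k A ⟶ B.V) (f : Γ(B.V.left, ⊤)) :
    ∃ c : Lat r →₀ A, ∀ (R : Type u) [CommRing R] [Algebra k R] (p : sp k R ⟶ T) (x : A →ₐ[k] R),
      gam k R ((orb B i p (pt x ≫ j)).left.appTop f) = c.sum fun χ b => chr e p χ * x b := by
  let R₀ : Type u := MA k r ⊗[k] A
  let Q : sp k R₀ ⟶ B.V :=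
    orb B i (pt (Algebra.TensorProduct.includeLeft : MA k r →ₐ[k] R₀) ≫ e.hom)
      (pt (Algebra.TensorProduct.includeRight : A →ₐ[k] R₀) ≫ j)
  obtain ⟨c, hc⟩ := exists_sum_tmul (gam k R₀ (Q.left.appTop f))
  refine ⟨c, fun R _ _ p x => ?_⟩
  let ψ : R₀ →ₐ[k] R := Algebra.TensorProduct.lift (algOf e p) x fun _ _ => .all _ _
  have hQ : pt ψ ≫ Q = orb B i p (pt x ≫ j) := by
    show pt ψ ≫ lift ((pt _ ≫ e.hom) ≫ i) (pt _ ≫ j) ≫ B.lift.act = lift (p ≫ i) (pt x ≫ j) ≫ B.lift.act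
    have hl : ψ.comp (Algebra.TensorProduct.includeLeft : MA k r →ₐ[k] R₀) = algOf e p :=
      AlgHom.ext fun z => (Algebra.TensorProduct.lift_tmul (algOf e p) x (fun _ _ => .all _ _) z (1 : A)).trans (by rw [map_one, _root_.mul_one])
    have hr : ψ.comp (Algebra.TensorProduct.includeRight : A →ₐ[k] R₀) = x :=
      AlgHom.ext fun z => (Algebra.TensorProduct.lift_tmul (algOf e p) x (fun _ _ => .all _ _) (1 : MA k r) z).trans (by rw [map_one, _root_.one_mul])
    rw [← Category.assoc, comp_lift, ← Category.assoc (pt ψ) (pt _ ≫ e.hom), ← Category.assoc (pt ψ) (pt _) e.hom,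
      ← CoactBr.pt_comp, ← Category.assoc (pt ψ) (pt _) j, ← CoactBr.pt_comp,
      hl, hr, pt_algOf,
      Category.assoc p e.inv e.hom, e.inv_hom_id, Category.comp_id]
  rw [← hQ, Over.comp_left, Scheme.Hom.comp_appTop, CommRingCat.comp_apply, gam_appTop, hc, map_finsuppSum]
  refine Finsupp.sum_congr fun χ _ => ?_
  show ψ (MonoidAlgebra.single χ 1 ⊗ₜ[k] c χ) = _
  exact Algebra.TensorProduct.lift_tmul (algOf e p) x (fun _ _ => .all _ _) _ _

/-- finitely many affine pieces contain all rational points -/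
theorem exists_affine_pieces (Y : Over (Spec (CommRingCat.of k))) [CompactSpace Y.left] :
    ∃ (N : ℕ) (A : Fin N → CommRingCat.{u}) (str : ∀ q, Algebra k (A q))
      (j : ∀ q, letI := str q; sp k (A q) ⟶ Y),
      ∀ v : sp k k ⟶ Y, ∃ q, letI := str q; ∃ x : (A q) →ₐ[k] k, v = pt x ≫ j q := by
  classical
  let 𝒰 := Y.left.affineCover
  obtain ⟨s, hs⟩ := CompactSpace.elim_nhds_subcover (fun y : Y.left => Set.range (𝒰.f (𝒰.idx y)).base)
    (fun y => (𝒰.f (𝒰.idx y)).isOpenEmbedding.isOpen_range.mem_nhds (𝒰.covers y))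
  let idx : Fin s.card → Y.left := fun q => (s.equivFin.symm q : Y.left)
  let Z : Fin s.card → Scheme.{u} := fun q => 𝒰.X (𝒰.idx (idx q))
  let f : ∀ q, Z q ⟶ Y.left := fun q => 𝒰.f (𝒰.idx (idx q))
  let A : Fin s.card → CommRingCat.{u} := fun q => Γ(Z q, ⊤)
  let φ : ∀ q, CommRingCat.of k ⟶ A q := fun q => Spec.preimage ((Z q).isoSpec.inv ≫ f q ≫ Y.hom)
  let str : ∀ q, Algebra k (A q) := fun q => (φ q).hom.toAlgebra
  let j : ∀ q, letI := str q; sp k (A q) ⟶ Y := fun q =>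
    letI := str q
    Over.homMk ((Z q).isoSpec.inv ≫ f q) (by
      rw [Category.assoc]
      exact (Spec.map_preimage ((Z q).isoSpec.inv ≫ f q ≫ Y.hom)).symm)
  refine ⟨s.card, A, str, j, fun v => ?_⟩
  let y₀ : Y.left := v.left.base (IsLocalRing.closedPoint k : PrimeSpectrum k)
  obtain ⟨z, hz, hzy⟩ : ∃ z ∈ s, y₀ ∈ Set.range (𝒰.f (𝒰.idx z)).base := by
    have : y₀ ∈ ⋃ z ∈ s, Set.range (𝒰.f (𝒰.idx z)).base := by rw [hs]; trivial
    simpa using this
  refine ⟨s.equivFin ⟨z, hz⟩, ?_⟩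
  letI := str (s.equivFin ⟨z, hz⟩)
  have hidx : idx (s.equivFin ⟨z, hz⟩) = z := by simp [idx]
  have hmem : y₀ ∈ Set.range (f (s.equivFin ⟨z, hz⟩)).base := by
    show y₀ ∈ Set.range (𝒰.f (𝒰.idx (idx (s.equivFin ⟨z, hz⟩)))).base
    rw [hidx]
    exact hzy
  have hrange : Set.range v.left.base ⊆ Set.range (f (s.equivFin ⟨z, hz⟩)).base := by
    rintro _ ⟨t, rfl⟩
    rw [show t = (IsLocalRing.closedPoint k : PrimeSpectrum k) from Subsingleton.elim (α := PrimeSpectrum k) _ _]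
    exact hmem
  let g := IsOpenImmersion.lift (f (s.equivFin ⟨z, hz⟩)) v.left hrange
  let t : sp k k ⟶ sp k (A (s.equivFin ⟨z, hz⟩)) := Over.homMk (g ≫ (Z _).isoSpec.hom) (by
    show (g ≫ _) ≫ Spec.map _ = _
    rw [← Over.w v, ← IsOpenImmersion.lift_fac (f (s.equivFin ⟨z, hz⟩)) v.left hrange, Category.assoc,
      Category.assoc]
    congr 1
    rw [show CommRingCat.ofHom (algebraMap k (A (s.equivFin ⟨z, hz⟩))) = φ (s.equivFin ⟨z, hz⟩) from rfl,
      Spec.map_preimage, Iso.hom_inv_id_assoc])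
  obtain ⟨x, hx⟩ := Groth.Misc8.CoactInertia.pt_surjective t
  refine ⟨x, Over.OverMorphism.ext ?_⟩
  rw [hx]
  show v.left = (g ≫ (Z _).isoSpec.hom) ≫ (Z _).isoSpec.inv ≫ f _
  rw [Category.assoc, Iso.hom_inv_id_assoc, IsOpenImmersion.lift_fac]

/-- characters of a split torus are linearly independent on rational points -/
theorem eq_zero_of_sum_chr [IsAlgClosed k] (s : Finset (Lat r)) (β : Lat r → k)
    (h : ∀ χ₀ : Lat r →* k, ∑ χ ∈ s, β χ * χ₀ χ = 0) : ∀ χ ∈ s, β χ = 0 := by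
  classical
  let evc : Lat r → ((Lat r →* k) →* k) := fun χ =>
    { toFun := fun f => f χ
      map_one' := rfl
      map_mul' := fun _ _ => rfl }
  have hinj : Function.Injective evc := by
    intro χ χ' hχ
    by_contra hne
    obtain ⟨q, hq⟩ : ∃ q, χ.toAdd q ≠ χ'.toAdd q := by
      by_contra hall
      push Not at hall
      exact hne (Multiplicative.toAdd.injective (funext hall))
    have hd : (χ.toAdd q - χ'.toAdd q).natAbs ≠ 0 := by omega
    obtain ⟨c, hc0, hc⟩ : ∃ c : k, c ≠ 0 ∧ c ^ (χ.toAdd q - χ'.toAdd q).natAbs ≠ 1 := by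
      by_contra hall
      push Not at hall
      have hfin : Set.Finite {x : k | x ^ (χ.toAdd q - χ'.toAdd q).natAbs = 1} := by
        refine Set.Finite.subset
          (Polynomial.nthRoots (χ.toAdd q - χ'.toAdd q).natAbs (1 : k)).toFinset.finite_toSet fun x hx => ?_
        simp [Polynomial.mem_nthRoots (Nat.pos_of_ne_zero hd)]
        exact hx
      refine Set.infinite_univ (α := k) ((hfin.union (Set.finite_singleton 0)).subset fun x _ => ?_)
      by_cases hx0 : x = 0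
      · exact Or.inr hx0
      · exact Or.inl (hall x hx0)
    let cu : kˣ := Units.mk0 c hc0
    let χ₀ : Lat r →* k :=
      { toFun := fun m => ((cu ^ (m.toAdd q) : kˣ) : k)
        map_one' := by simp
        map_mul' := fun m n => by rw [toAdd_mul, Pi.add_apply, zpow_add, Units.val_mul] }
    have e1 : cu ^ (χ.toAdd q) = cu ^ (χ'.toAdd q) := Units.ext (DFunLike.congr_fun hχ χ₀)
    have e2 : cu ^ (χ.toAdd q - χ'.toAdd q) = 1 := by rw [zpow_sub, e1, mul_inv_cancel]
    exact hc (congrArg Units.val (pow_natAbs_eq_one.2 e2))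
  have hli := (linearIndependent_monoidHom (Lat r →* k) k).comp evc hinj
  intro χ hχ
  refine linearIndependent_iff'.1 hli s β (funext fun f => ?_) χ hχ
  simpa [evc, Finset.sum_apply] using h f

variable [IsMonHom i]

/-- the order of a character along a one-parameter subgroup -/
def deg (l : Red.Gm (Spec (CommRingCat.of k)) ⟶ T) (χ : Lat r) : ℤ :=
  (chr e (gpt (Ser.u k) ≫ l) χ).order

lemma deg_mul (l₁ l₂ : Red.Gm (Spec (CommRingCat.of k)) ⟶ T) (χ : Lat r) : deg e (l₁ * l₂) χ = deg e l₁ χ + deg e l₂ χ := by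
  rw [deg, MonObj.comp_mul, chr_mul]
  exact HahnSeries.order_mul (chr_ne_zero e _ χ) (chr_ne_zero e _ χ)

/-- **The numerical function on a torus is a maximum of finitely many linear forms.** -/
theorem exists_linear_forms [IsAlgClosed k] (hT : Red.IsTorus T) (hB : HMNum.AmpleCover B) :
    ∃ (Ind : Type) (_ : Fintype Ind) (ℓ : Ind → (Red.Gm (Spec (CommRingCat.of k)) ⟶ T) → ℚ),
      (∀ q l₁ l₂, ℓ q (l₁ * l₂) = ℓ q l₁ + ℓ q l₂) ∧
      ∀ x : 𝟙_ (Over (Spec (CommRingCat.of k))) ⟶ X, ∃ I : Finset Ind, ∀ (l : Red.Gm (Spec (CommRingCat.of k)) ⟶ T) [IsMonHom l] (m : ℤ),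
        HMNum.IsMu B (l ≫ i) x m → (∀ q ∈ I, ℓ q l ≤ m) ∧ ∃ q ∈ I, ℓ q l = m := by
  classical
  obtain ⟨r, e, he⟩ := Groth.AlgGrp1.exists_diag_iso_of_isTorus hT
  haveI := he
  haveI := B.atlas.affine
  haveI : CompactSpace X.left := hB.1
  haveI : CompactSpace B.V.left := QuasiCompact.compactSpace_of_compactSpace B.π.left
  -- finitely many sections covering `X`
  choose nf ff hn hf hmem Uf hUf hUaff using hB.2
  obtain ⟨s, hs⟩ := CompactSpace.elim_nhds_subcover (fun p : X.left => (Uf p : Set X.left))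
    (fun p => (Uf p).isOpen.mem_nhds (by rw [hUf p]; exact hmem p))
  let J := s.card
  let pj : Fin J → X.left := fun q => (s.equivFin.symm q : X.left)
  have hcov : ∀ p : X.left, ∃ q : Fin J, p ∈ GLinSh.nonvanishing B.π (ff (pj q)) := by
    intro p
    have : p ∈ ⋃ z ∈ s, (Uf z : Set X.left) := by rw [hs]; trivial
    obtain ⟨z, hz, hp⟩ : ∃ z ∈ s, p ∈ (Uf z : Set X.left) := by simpa using this
    refine ⟨s.equivFin ⟨z, hz⟩, ?_⟩
    rw [← hUf]
    simpa [pj] using hp
  obtain ⟨N, A, str, j, hpieces⟩ := exists_affine_pieces B.V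
  letI := str
  choose c hc using fun (w : Fin N) (q : Fin J) => exists_coeffs e B i (j w) (ff (pj q))
  refine ⟨Σ wq : Fin N × Fin J, {χ // χ ∈ (c wq.1 wq.2).support}, inferInstance,
    fun z l => -((deg e l z.2.1 : ℤ) : ℚ) / (nf (pj z.1.2) : ℚ), fun z l₁ l₂ => ?_, fun x => ?_⟩
  · show -((deg e (l₁ * l₂) z.2.1 : ℤ) : ℚ) / (nf (pj z.1.2) : ℚ) = _
    rw [deg_mul]
    push_cast
    ring
  obtain ⟨U', y', hy', hxU, v, hv, hv1⟩ := exists_chart_pt B x
  obtain ⟨w, x₀, hx₀⟩ := hpieces (toUnit (sp k k) ≫ v)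
  let β : Fin J → Lat r → k := fun q χ => x₀ (c w q χ)
  refine ⟨Finset.univ.filter fun z => z.1.1 = w ∧ β z.1.2 z.2.1 ≠ 0, fun l hl m hm => ?_⟩
  let E : Lat r → Ser.K k := fun χ => chr e (gpt (Ser.u k) ≫ l) χ
  -- the translated arcs
  have hS : Subsingleton (𝟙_ (Over (Spec (CommRingCat.of k)))).left := inferInstanceAs (Subsingleton (PrimeSpectrum k))
  have hS' : Nonempty (𝟙_ (Over (Spec (CommRingCat.of k)))).left := inferInstanceAs (Nonempty (PrimeSpectrum k))
  have key : ∀ (χ₀ : Lat r →* k), ∃ (v' : 𝟙_ (Over (Spec (CommRingCat.of k))) ⟶ B.V),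
      (∀ q, arcFn B (l ≫ i) v' (ff (pj q)) =
        ∑ χ ∈ (c w q).support, algebraMap k (Ser.K k) (β q χ * χ₀ χ) * E χ) ∧
      (∀ (q : Fin J) (d : ℤ), d < -((nf (pj q) : ℤ) * m) → (arcFn B (l ≫ i) v' (ff (pj q))).coeff d = 0) ∧
      ∃ q, (arcFn B (l ≫ i) v' (ff (pj q))).coeff (-((nf (pj q) : ℤ) * m)) ≠ 0 := by
    intro χ₀
    let t₀ : 𝟙_ (Over (Spec (CommRingCat.of k))) ⟶ T := inv (toUnit (sp k k)) ≫ tPt e χ₀
    let v' : 𝟙_ (Over (Spec (CommRingCat.of k))) ⟶ B.V := lift (t₀ ≫ i) v ≫ B.lift.act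
    have hμ : HMNum.IsMu B (l ≫ i) (lift (t₀ ≫ i) x ≫ a.act) m := by
      refine (isMu_act_iff B (t₀ ≫ i) (l := l ≫ i) (l' := l ≫ i) ?_ hS hS' x m).2 hm
      rw [← Category.assoc, ← GrpObj.inv_comp, ← MonObj.mul_comp, ← MonObj.mul_comp,
        Groth.Reductive2.torus_mul_comm hT (toUnit _ ≫ t₀)⁻¹ l, _root_.mul_assoc, inv_mul_cancel, _root_.mul_one]
    have hv' : v' ≫ B.π = lift (t₀ ≫ i) x ≫ a.act := by rw [act_π, hv]
    -- a chart at the translated point
    obtain ⟨U₂, y₂, hy₂, hU₂, v₂, hv₂, hv₂1⟩ := exists_chart_pt B (lift (t₀ ≫ i) x ≫ a.act)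
    have hl₂ : Lands v' (B.π.left ⁻¹ᵁ U₂) := lands_pre B hv' hU₂
    refine ⟨v', fun q => ?_, ?_⟩
    · have earc : arc B (l ≫ i) v' =
          orb B i ((gpt (Ser.u k) ≫ l) * (pt (Algebra.ofId k (Ser.K k)) ≫ tPt e χ₀))
            (pt ((Algebra.ofId k (Ser.K k)).comp x₀) ≫ j w) := by
        have e0 : toUnit (sp k (Ser.K k)) = pt (Algebra.ofId k (Ser.K k)) ≫ toUnit (sp k k) :=
          toUnit_unique _ _
        have e1 : toUnit (sp k (Ser.K k)) ≫ v' =
            lift ((pt (Algebra.ofId k (Ser.K k)) ≫ tPt e χ₀) ≫ i)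
              (pt ((Algebra.ofId k (Ser.K k)).comp x₀) ≫ j w) ≫ B.lift.act := by
          show toUnit _ ≫ lift (t₀ ≫ i) v ≫ B.lift.act = _
          rw [← Category.assoc, comp_lift, e0, CoactBr.pt_comp, Category.assoc _ (pt x₀) (j w), ← hx₀]
          have e2 : toUnit (sp k (Ser.K k)) ≫ inv (toUnit (sp k k)) = pt (Algebra.ofId k (Ser.K k)) := by
            rw [e0, Category.assoc, IsIso.hom_inv_id, Category.comp_id]
          rw [← Category.assoc (pt (Algebra.ofId k (Ser.K k))) (toUnit (sp k k)) v, ← e0, ← e2]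
          simp [t₀]
        show lift (gpt (Ser.u k) ≫ l ≫ i) (toUnit _ ≫ v') ≫ B.lift.act = _
        rw [e1, ← lift_mul_lift_act, orb, ← Category.assoc (gpt _) l i, MonObj.mul_comp]
      show gam k (Ser.K k) ((arc B (l ≫ i) v').left.appTop (ff (pj q))) = _
      rw [earc, hc w q, Finsupp.sum]
      refine Finset.sum_congr rfl fun χ _ => ?_
      rw [chr_mul, chr_comp, chr_tPt, map_mul]
      show E χ * algebraMap k (Ser.K k) (χ₀ χ) * algebraMap k (Ser.K k) (β q χ) = _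
      ring
    · -- rescale `v'` to a vector with coordinate one
      have hne : ev v' (B.π.left ⁻¹ᵁ U₂) hl₂ y₂ ≠ 0 := by
        intro h0
        have e : lift (t₀ ≫ i)⁻¹ v' ≫ B.lift.act = v := by
          show lift _ (lift (t₀ ≫ i) v ≫ B.lift.act) ≫ B.lift.act = v
          rw [← lift_mul_lift_act, inv_mul_cancel, lift_one_act]
        have hl : Lands v (B.π.left ⁻¹ᵁ U') := lands_pre B hv hxU
        have hl' : Lands (lift (t₀ ≫ i)⁻¹ v' ≫ B.lift.act) (B.π.left ⁻¹ᵁ U') := lands_congr e.symm hl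
        have h1 := ev_act B hy₂ hy' _ v' hl₂ hl'
          (lands_twoOpen hl₂ (lands_congr (act_π B _ v') hl'))
        rw [ev_congr e hl' hl, hv1 hl, h0, mul_zero] at h1
        have : (1 : k) = 0 := by
          have := congrArg (gam k k ∘ (toUnit (sp k k)).left.appTop) h1
          simpa using this
        exact one_ne_zero this
      obtain ⟨h1, p, h2⟩ := arcFn_bounds_of_ne_zero B (l ≫ i) hμ hy₂ v' hv' hU₂ hl₂ hne
      refine ⟨fun q d hd => h1 _ _ (hf (pj q)) d hd, ?_⟩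
      obtain ⟨q, hq⟩ := hcov p
      exact ⟨q, h2 _ _ (hf (pj q)) hq⟩
  have hcoeff : ∀ (χ₀ : Lat r →* k) (q : Fin J) (d : ℤ),
      (∑ χ ∈ (c w q).support, algebraMap k (Ser.K k) (β q χ * χ₀ χ) * E χ).coeff d =
        ∑ χ ∈ (c w q).support, β q χ * χ₀ χ * (E χ).coeff d := by
    intro χ₀ q d
    rw [HahnSeries.coeff_sum]
    exact Finset.sum_congr rfl fun χ _ => Ser.coeff_algebraMap_mul _ _ _
  have hnpos : ∀ q, (0 : ℚ) < (nf (pj q) : ℚ) := fun q => by exact_mod_cast hn (pj q)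
  have hle : ∀ q, ∀ χ ∈ (c w q).support, β q χ ≠ 0 → -((nf (pj q) : ℤ) * m) ≤ deg e l χ := by
    intro q χ hχ hβ
    by_contra hlt
    push Not at hlt
    let S := (c w q).support.filter fun χ => β q χ ≠ 0
    have hSne : S.Nonempty := ⟨χ, Finset.mem_filter.2 ⟨hχ, hβ⟩⟩
    obtain ⟨χm, hχm, hmin⟩ := S.exists_min_image (deg e l) hSne
    let d := deg e l χm
    have hd : d < -((nf (pj q) : ℤ) * m) :=
      lt_of_le_of_lt (hmin χ (Finset.mem_filter.2 ⟨hχ, hβ⟩)) hlt
    have hz := eq_zero_of_sum_chr (c w q).support (fun χ => β q χ * (E χ).coeff d) fun χ₀ => by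
      obtain ⟨v', hsum, hlow, -⟩ := key χ₀
      have := hlow q d hd
      rw [hsum, hcoeff] at this
      rw [← this]
      exact Finset.sum_congr rfl fun χ _ => by ring
    have h0 := hz χm (Finset.mem_filter.1 hχm).1
    rcases mul_eq_zero.1 h0 with h0 | h0
    · exact (Finset.mem_filter.1 hχm).2 h0
    · exact chr_ne_zero e (gpt (Ser.u k) ≫ l) χm (HahnSeries.coeff_order_eq_zero.1 h0)
  refine ⟨fun z hz => ?_, ?_⟩
  · obtain ⟨⟨w', q⟩, χ, hχ⟩ := z
    simp only [Finset.mem_filter, Finset.mem_univ, true_and] at hz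
    obtain ⟨rfl, hβ⟩ := hz
    have := hle q χ hχ hβ
    rw [div_le_iff₀ (hnpos q)]
    have : (-((nf (pj q) : ℤ) * m) : ℚ) ≤ (deg e l χ : ℚ) := by exact_mod_cast this
    push_cast at this
    linarith
  · obtain ⟨v', hsum, -, q, hq⟩ := key 1
    rw [hsum, hcoeff] at hq
    obtain ⟨χ, hχ, hne⟩ := Finset.exists_ne_zero_of_sum_ne_zero hq
    have hβ : β q χ ≠ 0 := fun h => hne (by rw [h]; simp)
    refine ⟨⟨⟨w, q⟩, χ, hχ⟩, by simp [hβ], ?_⟩
    have hEc : (E χ).coeff (-((nf (pj q) : ℤ) * m)) ≠ 0 := fun h => hne (by rw [h]; simp)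
    have h1 : deg e l χ ≤ -((nf (pj q) : ℤ) * m) := by
      by_contra hlt
      exact hEc (HahnSeries.coeff_eq_zero_of_lt_order (not_le.1 hlt))
    have h2 : (deg e l χ : ℚ) = -((nf (pj q) : ℚ) * m) := by
      exact_mod_cast le_antisymm h1 (hle q χ hχ hβ)
    show -((deg e l χ : ℤ) : ℚ) / (nf (pj q) : ℚ) = (m : ℚ)
    rw [div_eq_iff (hnpos q).ne', h2]
    ring

end Groth.GitMu
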