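/- Existence of limits under one-parameter subgroups for proper schemes over a field (helper50). -/
import Groth.Agent.GitMu.AffPts
import Groth.Agent.GitMu.Limit
import Groth.Agent.AlgGrp2.Basic
import Groth.Agent.MiscGeom.MagnetBase
import Groth.Agent.TorsProper.Points
import Groth.Agent.AlgGrp1.Basic
import Mathlib.RingTheory.Localization.FractionRing
import Mathlib.RingTheory.DedekindDomain.PID
import Mathlib.Algebra.MonoidAlgebra.NoZeroDivisors

set_option autoImplicit false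

universe u

open CategoryTheory MonoidalCategory CartesianMonoidalCategory MonObj AlgebraicGeometry Opposite
open CoactBr (sp pt)

noncomputable section

namespace Groth.GitMu

section Ring

variable (k : Type u) [Field k]

/-- `k[u]` -/
abbrev Rp : Type u := MonoidAlgebra k (Multiplicative ↥HMNum.plus)

/-- `k[u, u⁻¹]` -/
abbrev Lz : Type u := MonoidAlgebra k (Multiplicative ℤ)

/-- `k[u] → k[u, u⁻¹]` -/
def kap : Rp k →ₐ[k] Lz k :=
  MonoidAlgebra.lift k (Lz k) (Multiplicative ↥HMNum.plus)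
    ((MonoidAlgebra.of k (Multiplicative ℤ)).comp (AddMonoidHom.toMultiplicative HMNum.plus.subtype))

variable {k}

lemma kap_single (n : Multiplicative ↥HMNum.plus) (c : k) :
    kap k (MonoidAlgebra.single n c) =
      MonoidAlgebra.single (Multiplicative.ofAdd ((n.toAdd : ↥HMNum.plus) : ℤ)) c := by
  rw [kap, MonoidAlgebra.lift_single]
  show c • MonoidAlgebra.single _ (1 : k) = _
  rw [MonoidAlgebra.smul_single', _root_.mul_one]
  rfl

lemma kap_eq_mapDomain (h : Rp k) :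
    kap k h = MonoidAlgebra.mapDomain (AddMonoidHom.toMultiplicative HMNum.plus.subtype) h := by
  induction h using MonoidAlgebra.induction_linear with
  | zero => simp
  | add x y hx hy => rw [map_add, hx, hy, MonoidAlgebra.mapDomain_add]
  | single n c => rw [kap_single, MonoidAlgebra.mapDomain_single]; rfl

lemma kap_injective : Function.Injective (kap k) := by
  intro x y h
  rw [kap_eq_mapDomain, kap_eq_mapDomain] at h
  exact MonoidAlgebra.mapDomain_injective (f := AddMonoidHom.toMultiplicative HMNum.plus.subtype)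
    Subtype.val_injective h

instance isDomain_Rp : IsDomain (Rp k) :=
  Function.Injective.isDomain (kap k).toRingHom kap_injective

/-- the coordinate of the affine line -/
def genPlus : Multiplicative ↥HMNum.plus :=
  Multiplicative.ofAdd ⟨1, (HMNum.mem_plus_iff _).2 zero_le_one⟩

lemma genPlus_pow (j : ℕ) :
    (((genPlus ^ j).toAdd : ↥HMNum.plus) : ℤ) = j := by
  rw [toAdd_pow, AddSubmonoidClass.coe_nsmul]
  simp [genPlus]

lemma single_eq_genPlus_pow (n : Multiplicative ↥HMNum.plus) :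
    n = genPlus ^ ((n.toAdd : ↥HMNum.plus) : ℤ).toNat := by
  refine Multiplicative.toAdd.injective (Subtype.ext ?_)
  rw [genPlus_pow, Int.toNat_of_nonneg ((HMNum.mem_plus_iff _).1 (Subtype.prop _))]

lemma aeval_surjective :
    Function.Surjective (Polynomial.aeval (R := k) (MonoidAlgebra.single genPlus (1 : k))) := by
  intro h
  induction h using MonoidAlgebra.induction_linear with
  | zero => exact ⟨0, map_zero _⟩
  | add x y hx hy =>
    obtain ⟨p, rfl⟩ := hx
    obtain ⟨q, rfl⟩ := hy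
    exact ⟨p + q, map_add _ _ _⟩
  | single n c =>
    refine ⟨Polynomial.monomial ((n.toAdd : ↥HMNum.plus) : ℤ).toNat c, ?_⟩
    rw [Polynomial.aeval_monomial, MonoidAlgebra.single_pow, one_pow, ← single_eq_genPlus_pow, ← Algebra.smul_def,
      MonoidAlgebra.smul_single', _root_.mul_one]

instance isPrincipalIdealRing_Rp : IsPrincipalIdealRing (Rp k) :=
  IsPrincipalIdealRing.of_surjective (Polynomial.aeval (R := k) (MonoidAlgebra.single genPlus (1 : k))).toRingHom
    aeval_surjective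

instance isDedekindDomain_Rp : IsDedekindDomain (Rp k) := IsPrincipalIdealRing.isDedekindDomain _

lemma exists_kap_mul (h : Lz k) :
    ∃ N : ℕ, ∀ j : ℕ, N ≤ j → ∃ r : Rp k, kap k r = h * MonoidAlgebra.single (Multiplicative.ofAdd (j : ℤ)) 1 := by
  induction h using MonoidAlgebra.induction_linear with
  | zero => exact ⟨0, fun j _ => ⟨0, by simp⟩⟩
  | add x y hx hy =>
    obtain ⟨N, hN⟩ := hx
    obtain ⟨M, hM⟩ := hy
    refine ⟨max N M, fun j hj => ?_⟩
    obtain ⟨r, hr⟩ := hN j (le_of_max_le_left hj)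
    obtain ⟨s, hs⟩ := hM j (le_of_max_le_right hj)
    exact ⟨r + s, by rw [map_add, hr, hs, add_mul]⟩
  | single n c =>
    refine ⟨(-n.toAdd).toNat, fun j hj => ?_⟩
    have h0 : 0 ≤ n.toAdd + (j : ℤ) := by omega
    refine ⟨MonoidAlgebra.single (Multiplicative.ofAdd ⟨_, (HMNum.mem_plus_iff _).2 h0⟩) c, ?_⟩
    rw [kap_single, MonoidAlgebra.single_mul_single, _root_.mul_one]
    rfl

end Ring

variable {k : Type u} [Field k]


lemma comp_uPt_incl :
    pt (kap k) ≫ uPt k ↥HMNum.plus = uPt k ℤ ≫ HMNum.incl (Spec (CommRingCat.of k)) := by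
  refine cv_ext fun m => ?_
  rw [cv_apply (uPt k ℤ ≫ HMNum.incl (Spec (CommRingCat.of k))), Groth.MiscGeom.Mag.pv_map, ← cv_apply, cv_comp, uPt, uPt, cv_cvPt,
    cv_cvPt]
  show kap k (MonoidAlgebra.single m 1) = MonoidAlgebra.single _ 1
  rw [kap_single]
  rfl

/-- morphisms from `Spec k[u,u⁻¹]` to a proper scheme extend to `Spec k[u]` -/
theorem exists_extend_line {X : Over (Spec (CommRingCat.of k))} [IsProper X.hom] (o : sp k (Lz k) ⟶ X) :
    ∃ φ : sp k (Rp k) ⟶ X, pt (kap k) ≫ φ = o := by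
  let K := FractionRing (Lz k)
  letI : Algebra (Rp k) K := ((algebraMap (Lz k) K).comp (kap k).toRingHom).toAlgebra
  let j : Lz k →ₐ[k] K := IsScalarTower.toAlgHom k (Lz k) K
  have hinjL : Function.Injective (algebraMap (Lz k) K) := IsFractionRing.injective _ _
  have hcomp : algebraMap (Rp k) K = (j.comp (kap k)).toRingHom := rfl
  haveI : FaithfulSMul (Rp k) K :=
    (faithfulSMul_iff_algebraMap_injective _ _).2 (hinjL.comp kap_injective)
  haveI : IsFractionRing (Rp k) K := by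
    refine IsFractionRing.of_field (Rp k) K fun z => ?_
    obtain ⟨n, d, hd, rfl⟩ := IsFractionRing.div_surjective (A := Lz k) z
    obtain ⟨N, hN⟩ := exists_kap_mul n
    obtain ⟨M, hM⟩ := exists_kap_mul d
    obtain ⟨r, hr⟩ := hN (max N M) (le_max_left _ _)
    obtain ⟨s, hs⟩ := hM (max N M) (le_max_right _ _)
    refine ⟨r, s, ?_⟩
    show _ = algebraMap (Lz k) K (kap k r) / algebraMap (Lz k) K (kap k s)
    rw [hr, hs, map_mul, map_mul, mul_div_mul_right]
    rw [Ne, ← map_zero (algebraMap (Lz k) K), hinjL.eq_iff, MonoidAlgebra.single_eq_zero]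
    exact one_ne_zero
  let Y := Limits.pullback X.hom (sp k (Rp k)).hom
  let p : Y ⟶ Spec (CommRingCat.of (Rp k)) := Limits.pullback.snd X.hom (sp k (Rp k)).hom
  have hw : (pt j ≫ o).left ≫ X.hom =
      Groth.NeronArea.Weil.genMap (R := Rp k) K ≫ (sp k (Rp k)).hom := by
    rw [Over.w (pt j ≫ o), ← Over.w (pt (j.comp (kap k)))]
    rfl
  let v : Spec (CommRingCat.of K) ⟶ Y :=
    Limits.pullback.lift (pt j ≫ o).left (Groth.NeronArea.Weil.genMap (R := Rp k) K) hw
  haveI : IsProper p := MorphismProperty.pullback_snd _ _ ‹_›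
  obtain ⟨s, hs1, hs2⟩ := Groth.TorsProper.exists_section_extend (Rp k) K p v (Limits.pullback.lift_snd _ _ _)
  let φ : sp k (Rp k) ⟶ X := Over.homMk (s ≫ Limits.pullback.fst X.hom (sp k (Rp k)).hom) (by
    show (s ≫ _) ≫ X.hom = _
    rw [Category.assoc, Limits.pullback.condition, ← Category.assoc]
    exact (congrArg (· ≫ (sp k (Rp k)).hom) hs1).trans (Category.id_comp _))
  refine ⟨φ, ?_⟩
  haveI : IsAffine (sp k (Lz k)).left := inferInstanceAs (IsAffine (Spec (CommRingCat.of (Lz k))))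
  refine Groth.MiscGeom.Mag.over_ext_of_injective (pt j)
    (Groth.MiscGeom.Mag.specMap_appTop_injective (CommRingCat.ofHom j.toRingHom) hinjL) ?_
  rw [← Category.assoc, ← CoactBr.pt_comp]
  refine Over.OverMorphism.ext ?_
  show (pt (j.comp (kap k))).left ≫ s ≫ Limits.pullback.fst X.hom (sp k (Rp k)).hom = _
  rw [← Category.assoc]
  exact (congrArg (· ≫ Limits.pullback.fst X.hom (sp k (Rp k)).hom) hs2).trans (Limits.pullback.lift_fst _ _ _)

variable {G X : Over (Spec (CommRingCat.of k))} [GrpObj G]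

/-- **Limits exist on proper schemes.** -/
theorem exists_isLimitPt [IsProper X.hom] (a : AlgGrp.Action G X) (l : Red.Gm (Spec (CommRingCat.of k)) ⟶ G) [IsMonHom l]
    (x : 𝟙_ (Over (Spec (CommRingCat.of k))) ⟶ X) : ∃ y, HMNum.IsLimitPt a l x y := by
  obtain ⟨φ₀, hφ₀⟩ := exists_extend_line (lift (uPt k ℤ ≫ l) (toUnit _ ≫ x) ≫ a.act)
  let φ : HMNum.A1 (Spec (CommRingCat.of k)) ⊗ 𝟙_ (Over (Spec (CommRingCat.of k))) ⟶ X := fst _ _ ≫ inv (uPt k ↥HMNum.plus) ≫ φ₀
  have horb : ∀ {T : Over (Spec (CommRingCat.of k))} (g : T ⟶ Red.Gm (Spec (CommRingCat.of k))) (t : T ⟶ 𝟙_ (Over (Spec (CommRingCat.of k)))),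
      lift (g ≫ HMNum.incl (Spec (CommRingCat.of k))) t ≫ φ = lift (g ≫ l) (t ≫ x) ≫ a.act := by
    intro T g t
    have h1 : HMNum.incl (Spec (CommRingCat.of k)) ≫ inv (uPt k ↥HMNum.plus) = inv (uPt k ℤ) ≫ pt (kap k) := by
      rw [IsIso.eq_inv_comp, ← Category.assoc, IsIso.comp_inv_eq]
      exact comp_uPt_incl.symm
    show lift (g ≫ HMNum.incl (Spec (CommRingCat.of k))) t ≫ fst _ _ ≫ inv (uPt k ↥HMNum.plus) ≫ φ₀ = _
    rw [lift_fst_assoc, Category.assoc, reassoc_of% h1, hφ₀, ← Category.assoc (inv (uPt k ℤ)), comp_lift,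
      IsIso.inv_hom_id_assoc, ← Category.assoc g, comp_lift, ← Category.assoc _ (toUnit _) x,
      ← Category.assoc g (_ ≫ toUnit _) x]
    congr 3
    exact toUnit_unique _ _
  have hmem : ∀ {T : Over (Spec (CommRingCat.of k))} (g : T ⟶ Red.Gm (Spec (CommRingCat.of k))) (b : T ⟶ HMNum.A1 (Spec (CommRingCat.of k))) (t : T ⟶ 𝟙_ (Over (Spec (CommRingCat.of k)))),
      lift ((g ≫ HMNum.incl (Spec (CommRingCat.of k))) * b) t ≫ φ = lift (g ≫ l) (lift b t ≫ φ) ≫ a.act := by
    let P := Red.Gm (Spec (CommRingCat.of k)) ⊗ 𝟙_ (Over (Spec (CommRingCat.of k)))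
    let Ψ₁ : HMNum.A1 (Spec (CommRingCat.of k)) ⊗ P ⟶ X :=
      lift ((snd _ _ ≫ fst _ _ ≫ HMNum.incl (Spec (CommRingCat.of k))) * fst _ _) (snd _ _ ≫ snd _ _) ≫ φ
    let Ψ₂ : HMNum.A1 (Spec (CommRingCat.of k)) ⊗ P ⟶ X :=
      lift (snd _ _ ≫ fst _ _ ≫ l) (lift (fst _ _) (snd _ _ ≫ snd _ _) ≫ φ) ≫ a.act
    have hΨ : Ψ₁ = Ψ₂ := by
      refine Groth.MiscGeom.Mag.whiskerRight_cancel HMNum.plus.subtype Subtype.val_injective ?_
      let g' : Red.Gm (Spec (CommRingCat.of k)) ⊗ P ⟶ Red.Gm (Spec (CommRingCat.of k)) := snd _ _ ≫ fst _ _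
      let t' : Red.Gm (Spec (CommRingCat.of k)) ⊗ P ⟶ 𝟙_ (Over (Spec (CommRingCat.of k))) := snd _ _ ≫ snd _ _
      let b' : Red.Gm (Spec (CommRingCat.of k)) ⊗ P ⟶ Red.Gm (Spec (CommRingCat.of k)) := fst _ _
      have e1 : (HMNum.incl (Spec (CommRingCat.of k)) ▷ P) ≫ Ψ₁ = lift ((g' ≫ HMNum.incl (Spec (CommRingCat.of k))) * (b' ≫ HMNum.incl (Spec (CommRingCat.of k)))) t' ≫ φ := by
        simp only [Ψ₁, g', b', t', P, ← Category.assoc, comp_lift, MonObj.comp_mul, whiskerRight_fst, whiskerRight_snd]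
      have e2 : (HMNum.incl (Spec (CommRingCat.of k)) ▷ P) ≫ Ψ₂ =
          lift (g' ≫ l) (lift (b' ≫ HMNum.incl (Spec (CommRingCat.of k))) t' ≫ φ) ≫ a.act := by
        simp only [Ψ₂, g', b', t', P, ← Category.assoc, comp_lift, whiskerRight_fst, whiskerRight_snd]
      refine e1.trans (Eq.trans ?_ e2.symm)
      rw [← MonObj.mul_comp, horb, horb, MonObj.mul_comp, Groth.AlgGrp2.lift_mul_act a]
    intro T g b t
    have h := congrArg (lift b (lift g t) ≫ ·) hΨ
    simp only [Ψ₁, Ψ₂, P, ← Category.assoc, comp_lift, MonObj.comp_mul, lift_fst, lift_snd] at h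
    exact h
  let φ' : (HMNum.attrPlus a l).obj (op (𝟙_ (Over (Spec (CommRingCat.of k))))) := ⟨φ, by
    rw [Magnet.MonAct.mem_eqvHom_iff]
    intro T g b t
    simp only [Magnet.MonAct.lift_restrict_act, Magnet.MonAct.ofAction_act, Magnet.subAct,
      Magnet.MonAct.lift_regular_act]
    exact hmem g b t⟩
  refine ⟨HMNum.limitPt φ', φ', ?_, rfl⟩
  rw [Magnet.MonAct.eqvHom.evalAt_app]
  show lift (toUnit _ ≫ η[HMNum.A1 (Spec (CommRingCat.of k))]) (𝟙 _) ≫ φ = x
  have h1 : toUnit (𝟙_ (Over (Spec (CommRingCat.of k)))) ≫ η[HMNum.A1 (Spec (CommRingCat.of k))] = (1 : 𝟙_ (Over (Spec (CommRingCat.of k))) ⟶ Red.Gm (Spec (CommRingCat.of k))) ≫ HMNum.incl (Spec (CommRingCat.of k)) := by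
    rw [← Hom.one_def, MonObj.one_comp]
  rw [h1, horb, MonObj.one_comp, Category.id_comp, Groth.AlgGrp2.lift_one_act a]

end Groth.GitMu
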