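/- Monomial lemma; existence of fibre weights and of the numerical function (helper50). -/
import Groth.Agent.GitMu.Eval
import Groth.Agent.GitMu.Limits
import Mathlib.FieldTheory.IsAlgClosed.Basic

set_option autoImplicit false

universe u

open CategoryTheory MonoidalCategory CartesianMonoidalCategory MonObj AlgebraicGeometry Opposite
open CoactBr (sp pt)

noncomputable section

namespace Groth.GitMu

section Monomial

variable {k : Type u} [Field k]

variable (k) in
/-- the coordinate of `k[u,u⁻¹]` as a unit -/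
def zU : (Lz k)ˣ :=
  (MonoidAlgebra.of k (Multiplicative ℤ)).toHomUnits (Multiplicative.ofAdd 1)

lemma val_zU_zpow (w : ℤ) : ((zU k ^ w : (Lz k)ˣ) : Lz k) = MonoidAlgebra.single (Multiplicative.ofAdd w) 1 := by
  rw [zU, ← map_zpow, MonoidHom.coe_toHomUnits, ← ofAdd_zsmul, zsmul_one]
  rfl

lemma gpt_zU : gpt (k := k) (zU k) = uPt k ℤ := by
  refine cv_ext fun m => ?_
  rw [cv_gpt, val_zU_zpow, uPt, cv_cvPt]
  rfl

/-- `z ↦ a z` -/
def sigL (a : kˣ) : Lz k →ₐ[k] Lz k :=
  MonoidAlgebra.lift k (Lz k) (Multiplicative ℤ)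
    { toFun := fun m => MonoidAlgebra.single m ((a ^ m.toAdd : kˣ) : k)
      map_one' := by simp [MonoidAlgebra.one_def]
      map_mul' := fun m n => by
        rw [MonoidAlgebra.single_mul_single, toAdd_mul, zpow_add, Units.val_mul] }

/-- evaluation at `a` -/
def evL (a : kˣ) : Lz k →ₐ[k] k :=
  MonoidAlgebra.lift k k (Multiplicative ℤ)
    { toFun := fun m => ((a ^ m.toAdd : kˣ) : k)
      map_one' := by simp
      map_mul' := fun m n => by rw [toAdd_mul, zpow_add, Units.val_mul] }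

lemma sigL_single (a : kˣ) (m : Multiplicative ℤ) (c : k) :
    sigL a (MonoidAlgebra.single m c) = MonoidAlgebra.single m (c * ((a ^ m.toAdd : kˣ) : k)) := by
  rw [sigL, MonoidAlgebra.lift_single]
  exact MonoidAlgebra.smul_single' _ _ _

lemma evL_single (a : kˣ) (m : Multiplicative ℤ) (c : k) :
    evL a (MonoidAlgebra.single m c) = c * ((a ^ m.toAdd : kˣ) : k) := by
  rw [evL, MonoidAlgebra.lift_single]
  rfl

lemma sigL_zU (a : kˣ) :
    Units.map (sigL a).toRingHom.toMonoidHom (zU k) =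
      Units.map (algebraMap k (Lz k)).toMonoidHom a * zU k := by
  ext1
  show sigL a (zU k : Lz k) = algebraMap k (Lz k) a * (zU k : Lz k)
  have h := val_zU_zpow (k := k) 1
  rw [zpow_one] at h
  rw [h, sigL_single, ← Algebra.smul_def, MonoidAlgebra.smul_single', toAdd_ofAdd, zpow_one, _root_.one_mul,
    _root_.mul_one]

lemma evL_zU (a : kˣ) : Units.map (evL a).toRingHom.toMonoidHom (zU k) = a := by
  ext1
  show evL a (zU k : Lz k) = _
  have h := val_zU_zpow (k := k) 1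
  rw [zpow_one] at h
  rw [h, evL_single, toAdd_ofAdd, zpow_one, _root_.one_mul]

lemma coeff_sigL (a : kˣ) (h : Lz k) (m : Multiplicative ℤ) :
    (sigL a h).coeff m = h.coeff m * ((a ^ m.toAdd : kˣ) : k) := by
  classical
  induction h using MonoidAlgebra.induction_linear with
  | zero => simp
  | add x y hx hy => simp only [map_add, MonoidAlgebra.coeff_add, Finsupp.add_apply, hx, hy, add_mul]
  | single n c =>
    rw [sigL_single]
    simp only [MonoidAlgebra.coeff_single, Finsupp.single_apply]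
    split_ifs with e <;> simp [e]

/-- **a multiplicative Laurent polynomial is a monomial** -/
theorem eq_single_of_scaling [Infinite k] {h : Lz k} (hs : ∀ a : kˣ, sigL a h = algebraMap k (Lz k) (evL a h) * h)
    (h1 : evL 1 h = 1) : ∃ w : ℤ, h = MonoidAlgebra.single (Multiplicative.ofAdd w) 1 := by
  classical
  have key : ∀ (a : kˣ) (m : Multiplicative ℤ), h.coeff m ≠ 0 → ((a ^ m.toAdd : kˣ) : k) = evL a h := by
    intro a m hm
    have e := congrArg (fun z : Lz k => z.coeff m) (hs a)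
    simp only [coeff_sigL, ← Algebra.smul_def, MonoidAlgebra.coeff_smul, Finsupp.smul_apply, smul_eq_mul] at e
    exact mul_left_cancel₀ hm (e.trans (_root_.mul_comm _ _))
  have hne : h ≠ 0 := fun e => by rw [e, map_zero] at h1; exact zero_ne_one h1
  obtain ⟨m, hm⟩ : ∃ m, h.coeff m ≠ 0 := by
    by_contra hall
    push Not at hall
    exact hne (MonoidAlgebra.ext (Finsupp.ext hall))
  have huniq : ∀ n, h.coeff n ≠ 0 → n = m := by
    intro n hn
    by_contra hne'
    have hd : (n.toAdd - m.toAdd).natAbs ≠ 0 := by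
      intro h0
      exact hne' (Multiplicative.toAdd.injective (by omega))
    have hfin : Set.Finite {x : k | x ^ (n.toAdd - m.toAdd).natAbs = 1} := by
      refine Set.Finite.subset
        (Polynomial.nthRoots (n.toAdd - m.toAdd).natAbs (1 : k)).toFinset.finite_toSet fun x hx => ?_
      simp [Polynomial.mem_nthRoots (Nat.pos_of_ne_zero hd)]
      exact hx
    refine Set.infinite_univ (α := k) ((hfin.union (Set.finite_singleton 0)).subset fun x _ => ?_)
    by_cases hx0 : x = 0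
    · exact Or.inr hx0
    · refine Or.inl ?_
      have h2 : (Units.mk0 x hx0) ^ (n.toAdd - m.toAdd) = 1 := by
        rw [zpow_sub, Units.ext ((key _ n hn).trans (key _ m hm).symm), mul_inv_cancel]
      show ((Units.mk0 x hx0 : kˣ) : k) ^ (n.toAdd - m.toAdd).natAbs = 1
      rw [← Units.val_pow_eq_pow_val, pow_natAbs_eq_one.2 h2, Units.val_one]
  have heq : h = MonoidAlgebra.single m (h.coeff m) := by
    refine MonoidAlgebra.ext (Finsupp.ext fun n => ?_)
    by_cases hn : n = m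
    · simp [hn]
    · simp [hn, Finsupp.single_apply, Ne.symm hn]
      by_contra h'
      exact hn (huniq n h')
  refine ⟨m.toAdd, ?_⟩
  have hc : h.coeff m = 1 := by
    conv_rhs => rw [← h1, heq, evL_single, one_zpow, Units.val_one, _root_.mul_one]
  rw [heq, hc]
  rfl

end Monomial

variable {k : Type u} [Field k]


/-- A natural family of functions of points of `G_m` that is multiplicative is a character. -/
theorem exists_zpow_of_mul [IsAlgClosed k]
    (F : ∀ T : Over (Spec (CommRingCat.of k)), (T ⟶ Red.Gm (Spec (CommRingCat.of k))) → Γ(T.left, ⊤))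
    (hnat : ∀ {T T' : Over (Spec (CommRingCat.of k))} (g : T' ⟶ T) (z : T ⟶ Red.Gm (Spec (CommRingCat.of k))), F T' (g ≫ z) = g.left.appTop (F T z))
    (hmul : ∀ {T : Over (Spec (CommRingCat.of k))} (z z' : T ⟶ Red.Gm (Spec (CommRingCat.of k))), F T (z * z') = F T z * F T z')
    (hone : ∀ {T : Over (Spec (CommRingCat.of k))}, F T 1 = 1) :
    ∃ w : ℤ, ∀ {T : Over (Spec (CommRingCat.of k))} (z : T ⟶ Red.Gm (Spec (CommRingCat.of k))),
      F T z = ((GmPts.unitOfPt z ^ w : (Γ(T.left, ⊤))ˣ) : Γ(T.left, ⊤)) := by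
  let h : Lz k := gam k (Lz k) (F _ (uPt k ℤ))
  have hev : ∀ a : kˣ, evL a h = gam k k (F _ (gpt a)) := fun a => by
    refine (gam_appTop (evL a) _).symm.trans (congrArg (gam k k) ?_)
    rw [← hnat, ← gpt_zU, comp_gpt, evL_zU]
  have hs : ∀ a : kˣ, sigL a h = algebraMap k (Lz k) (evL a h) * h := fun a => by
    have e : gpt (k := k) (Units.map (algebraMap k (Lz k)).toMonoidHom a) =
        pt (Algebra.ofId k (Lz k)) ≫ gpt a := by
      rw [comp_gpt]
      rfl
    have e2 : pt (sigL a) ≫ uPt k ℤ = (pt (Algebra.ofId k (Lz k)) ≫ gpt a) * uPt k ℤ := by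
      rw [← gpt_zU, comp_gpt, sigL_zU, gpt_mul, e]
    refine (gam_appTop (sigL a) _).symm.trans ?_
    rw [← hnat, e2, hmul, map_mul, hnat, gam_appTop, ← hev a]
    rfl
  have h1 : evL 1 h = 1 := by rw [hev, gpt_one, hone, map_one]
  obtain ⟨w, hw⟩ := eq_single_of_scaling hs h1
  have hu : F _ (uPt k ℤ) =
      ((GmPts.unitOfPt (uPt k ℤ) ^ w : (Γ((sp k (Lz k)).left, ⊤))ˣ) : Γ((sp k (Lz k)).left, ⊤)) := by
    refine (gam k (Lz k)).injective ?_
    rw [show gam k (Lz k) (F _ (uPt k ℤ)) = h from rfl, hw, ← gpt_zU, unitOfPt_gpt_zpow, val_zU_zpow]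
  refine ⟨w, fun {T} z => ?_⟩
  have hz : (z ≫ inv (uPt k ℤ)) ≫ uPt k ℤ = z := by simp
  conv_lhs => rw [← hz, hnat, hu]
  conv_rhs => rw [← hz, GmPts.unitOfPt_comp, ← map_zpow]
  rfl

variable {G X : Over (Spec (CommRingCat.of k))} [GrpObj G] {a : AlgGrp.Action G X} (B : GLinSh.LinBun G a)

/-- **Weights on the fibres over fixed points exist.** -/
theorem exists_hasFibreWeight [IsAlgClosed k] (l : Red.Gm (Spec (CommRingCat.of k)) ⟶ G) [IsMonHom l] (y₀ : 𝟙_ (Over (Spec (CommRingCat.of k))) ⟶ X)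
    (hfix : HMNum.IsFixedBy a l y₀) : ∃ w : ℤ, HMNum.HasFibreWeight B l y₀ w := by
  obtain ⟨U, y, hy, hU, v₀, hv₀, hy1⟩ := exists_chart_pt B y₀
  have hL : ∀ {T : Over (Spec (CommRingCat.of k))} (g : T ⟶ Red.Gm (Spec (CommRingCat.of k))),
      Lands (lift (g ≫ l) (toUnit T ≫ v₀) ≫ B.lift.act) (B.π.left ⁻¹ᵁ U) := by
    intro T g
    refine lands_pre B (x := toUnit T ≫ y₀) ?_ (lands_toUnit hU T)
    rw [act_π, Category.assoc, hv₀]
    exact hfix T (toUnit T) g
  have hR : ∀ {T : Over (Spec (CommRingCat.of k))} (g : T ⟶ Red.Gm (Spec (CommRingCat.of k))) (t : T ⟶ 𝟙_ (Over (Spec (CommRingCat.of k)))),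
      Lands (lift (g ≫ l) (t ≫ y₀)) (twoOpen a U U) := by
    intro T g t
    exact lands_twoOpen (hU.comp t) (lands_congr (hfix T t g).symm (hU.comp t))
  let F : ∀ T : Over (Spec (CommRingCat.of k)), (T ⟶ Red.Gm (Spec (CommRingCat.of k))) → Γ(T.left, ⊤) := fun T g =>
    ev (lift (g ≫ l) (toUnit T ≫ v₀) ≫ B.lift.act) (B.π.left ⁻¹ᵁ U) (hL g) y
  have hθ : ∀ {T : Over (Spec (CommRingCat.of k))} (g : T ⟶ Red.Gm (Spec (CommRingCat.of k))) (t : T ⟶ 𝟙_ (Over (Spec (CommRingCat.of k)))) (v : T ⟶ B.V) (hv : v ≫ B.π = t ≫ y₀)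
      (h : Lands v (B.π.left ⁻¹ᵁ U)) (h' : Lands (lift (g ≫ l) v ≫ B.lift.act) (B.π.left ⁻¹ᵁ U)),
      ev (lift (g ≫ l) v ≫ B.lift.act) (B.π.left ⁻¹ᵁ U) h' y =
        ev (lift (g ≫ l) (t ≫ y₀)) (twoOpen a U U) (hR g t) (theta B hy hy) * ev v (B.π.left ⁻¹ᵁ U) h y := by
    intro T g t v hv h h'
    rw [ev_act B hy hy (g ≫ l) v h h' (lands_congr (by rw [hv]) (hR g t)),
      ev_congr (show lift (g ≫ l) (v ≫ B.π) = lift (g ≫ l) (t ≫ y₀) by rw [hv]) _ (hR g t)]
  have hF : ∀ {T : Over (Spec (CommRingCat.of k))} (g : T ⟶ Red.Gm (Spec (CommRingCat.of k))) (t : T ⟶ 𝟙_ (Over (Spec (CommRingCat.of k)))),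
      F T g = ev (lift (g ≫ l) (t ≫ y₀)) (twoOpen a U U) (hR g t) (theta B hy hy) := by
    intro T g t
    have hv : (toUnit T ≫ v₀) ≫ B.π = t ≫ y₀ := by rw [Category.assoc, hv₀, toUnit_unique t (toUnit T)]
    have hl : Lands (toUnit T ≫ v₀) (B.π.left ⁻¹ᵁ U) := lands_pre B hv (hU.comp t)
    have hl0 : Lands v₀ (B.π.left ⁻¹ᵁ U) := lands_pre B hv₀ hU
    refine (hθ g t _ hv hl (hL g)).trans ?_
    rw [ev_comp (toUnit T) hl0 hl, hy1 hl0, map_one, _root_.mul_one]
  obtain ⟨w, hw⟩ := exists_zpow_of_mul F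
    (fun {T T'} g z => by
      refine (ev_congr (q' := g ≫ lift (z ≫ l) (toUnit T ≫ v₀) ≫ B.lift.act) ?_ _ ((hL z).comp g) y).trans
        (ev_comp g (hL z) _ y)
      rw [← Category.assoc g (lift _ _), comp_lift, ← Category.assoc g (toUnit T), comp_toUnit,
        ← Category.assoc g z])
    (fun {T} z z' => by
      have e : lift ((z * z') ≫ l) (toUnit T ≫ v₀) ≫ B.lift.act =
          lift (z ≫ l) (lift (z' ≫ l) (toUnit T ≫ v₀) ≫ B.lift.act) ≫ B.lift.act := by
        rw [MonObj.mul_comp, lift_mul_lift_act]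
      have hv : (lift (z' ≫ l) (toUnit T ≫ v₀) ≫ B.lift.act) ≫ B.π = toUnit T ≫ y₀ := by
        rw [act_π, Category.assoc, hv₀, hfix T (toUnit T) z']
      rw [show F T (z * z') = _ from ev_congr e (hL _) (lands_congr e (hL _)) y,
        hθ z (toUnit T) _ hv (hL z') _, hF z (toUnit T)])
    (fun {T} => by
      have hl0 : Lands v₀ (B.π.left ⁻¹ᵁ U) := lands_pre B hv₀ hU
      refine (ev_congr (q' := toUnit T ≫ v₀) ?_ _ (hl0.comp _) y).trans ?_
      · rw [MonObj.one_comp, lift_one_act]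
      · rw [ev_comp (toUnit T) hl0 (hl0.comp _), hy1 hl0, map_one])
  refine ⟨w, hfix, U, y, hy, le_antisymm le_top hU, fun T t g v hv hgv => ?_⟩
  show ev (lift (g ≫ l) v ≫ B.lift.act) _ _ y = _ * ev v _ _ y
  rw [hθ g t v hv (HMNum.top_le_preimage B.π (le_antisymm le_top hU) hv)
    (HMNum.top_le_preimage B.π (le_antisymm le_top hU) hgv), ← hF g t, hw]

/-- **The numerical function takes a value everywhere when `X` is proper.** -/
theorem exists_isMu [IsAlgClosed k] [IsProper X.hom] (l : Red.Gm (Spec (CommRingCat.of k)) ⟶ G) [IsMonHom l] (x : 𝟙_ (Over (Spec (CommRingCat.of k))) ⟶ X) :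
    ∃ m : ℤ, HMNum.IsMu B l x m := by
  obtain ⟨y₀, hy₀⟩ := exists_isLimitPt a l x
  obtain ⟨w, hw⟩ := exists_hasFibreWeight B l y₀ (isFixedBy_of_isLimitPt hy₀)
  exact ⟨-w, y₀, hy₀, by rwa [neg_neg]⟩

end Groth.GitMu
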