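/- Linear forms on cocharacters of a torus are bounded by any norm; cocharacters are conjugate into a maximal torus
(helper50). -/
import Groth.Agent.GitMu.TorusMax
import Groth.Agent.GitMu.Weight
import Groth.Agent.AlgGrp1.MaxTorus
import Groth.Agent.AlgGrp1.TorusField
import Groth.Agent.Reductive2.MaxTorusAlgClosed
import Groth.Agent.RedX.SmoothTorus
import Mathlib.LinearAlgebra.Matrix.NonsingularInverse
import Mathlib.LinearAlgebra.Matrix.ToLinearEquiv
import Mathlib.LinearAlgebra.FreeModule.PID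

set_option autoImplicit false

universe u

open CategoryTheory MonoidalCategory CartesianMonoidalCategory MonObj AlgebraicGeometry Opposite
open CoactBr (sp pt)

noncomputable section

namespace Groth.GitMu

section LinearAlgebra

open Matrix

/-- a positive matrix bounds every linear form: Cauchy–Schwarz -/
theorem exists_bound_matrix {s : ℕ} (M : Matrix (Fin s) (Fin s) ℚ) (hsym : M.transpose = M)
    (hpos : ∀ v : Fin s → ℤ, v ≠ 0 → 0 < (Int.cast ∘ v) ⬝ᵥ (M *ᵥ (Int.cast ∘ v))) (c : Fin s → ℚ) :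
    ∃ C : ℚ, 0 ≤ C ∧ ∀ n : Fin s → ℤ, (c ⬝ᵥ (Int.cast ∘ n)) ^ 2 ≤ C * ((Int.cast ∘ n) ⬝ᵥ (M *ᵥ (Int.cast ∘ n))) := by
  -- positivity on rational vectors
  have hclear : ∀ v : Fin s → ℚ, ∃ (N : ℤ) (n : Fin s → ℤ), 0 < N ∧ (Int.cast ∘ n) = (N : ℚ) • v := by
    intro v
    refine ⟨∏ j, ((v j).den : ℤ), fun i => (v i).num * ∏ j ∈ Finset.univ.erase i, ((v j).den : ℤ), ?_, ?_⟩
    · exact Finset.prod_pos fun j _ => by exact_mod_cast (v j).pos
    · funext i
      simp only [Function.comp_apply, Pi.smul_apply, smul_eq_mul, Int.cast_mul, Int.cast_prod, Int.cast_natCast]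
      rw [← Finset.mul_prod_erase Finset.univ (fun j => ((v j).den : ℚ)) (Finset.mem_univ i)]
      rw [show (((v i).den : ℚ) * ∏ j ∈ Finset.univ.erase i, ((v j).den : ℚ)) * v i =
        (v i * ((v i).den : ℚ)) * ∏ j ∈ Finset.univ.erase i, ((v j).den : ℚ) by ring, Rat.mul_den_eq_num]
  have hposQ : ∀ v : Fin s → ℚ, v ≠ 0 → 0 < v ⬝ᵥ (M *ᵥ v) := by
    intro v hv
    obtain ⟨N, n, hN, hn⟩ := hclear v
    have hN' : (0 : ℚ) < N := by exact_mod_cast hN
    have hn0 : n ≠ 0 := by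
      intro h
      refine hv ?_
      have h1 : (N : ℚ) • v = 0 := by rw [← hn, h]; funext i; simp
      exact (smul_eq_zero.1 h1).resolve_left hN'.ne'
    have h := hpos n hn0
    rw [hn, mulVec_smul, smul_dotProduct, dotProduct_smul, smul_eq_mul, smul_eq_mul, ← _root_.mul_assoc] at h
    exact (pos_iff_pos_of_mul_pos h).1 (mul_pos hN' hN')
  have hdet : M.det ≠ 0 := by
    intro h
    obtain ⟨v, hv, hMv⟩ := Matrix.exists_mulVec_eq_zero_iff.2 h
    have := hposQ v hv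
    rw [hMv, dotProduct_zero] at this
    exact lt_irrefl _ this
  let v₀ : Fin s → ℚ := M⁻¹ *ᵥ c
  have hv₀ : M *ᵥ v₀ = c := by
    rw [mulVec_mulVec, Matrix.mul_nonsing_inv _ (isUnit_iff_ne_zero.2 hdet), one_mulVec]
  let C := v₀ ⬝ᵥ (M *ᵥ v₀)
  have hC : 0 ≤ C := by
    by_cases h : v₀ = 0
    · simp [C, h]
    · exact (hposQ v₀ h).le
  refine ⟨C, hC, fun n => ?_⟩
  by_cases h0 : v₀ = 0
  · have : c = 0 := by rw [← hv₀, h0, mulVec_zero]
    simp [this, C, h0]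
  have hCpos : 0 < C := hposQ v₀ h0
  set w : Fin s → ℚ := Int.cast ∘ n
  let t : ℚ := (c ⬝ᵥ w) / C
  have hmid : w ⬝ᵥ (M *ᵥ v₀) = c ⬝ᵥ w := by rw [hv₀, dotProduct_comm]
  have hmid' : v₀ ⬝ᵥ (M *ᵥ w) = c ⬝ᵥ w := by
    rw [dotProduct_mulVec, ← mulVec_transpose, hsym, hv₀]
  have h : 0 ≤ (w - t • v₀) ⬝ᵥ (M *ᵥ (w - t • v₀)) := by
    by_cases h : w - t • v₀ = 0
    · simp [h]
    · exact (hposQ _ h).le
  simp only [mulVec_sub, mulVec_smul, sub_dotProduct, dotProduct_sub, smul_dotProduct, dotProduct_smul,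
    smul_eq_mul, hmid, hmid'] at h
  rw [show v₀ ⬝ᵥ (M *ᵥ v₀) = C from rfl] at h
  have hkey : 0 ≤ w ⬝ᵥ (M *ᵥ w) - (c ⬝ᵥ w) ^ 2 / C := by
    have e : t * C = c ⬝ᵥ w := div_mul_cancel₀ _ hCpos.ne'
    have e2 : (c ⬝ᵥ w) ^ 2 / C = t * (c ⬝ᵥ w) := by
      rw [pow_two, ← div_mul_eq_mul_div]
    rw [e2]
    have e3 : t * (t * C) = t * (c ⬝ᵥ w) := by rw [e]
    linarith
  have := mul_le_mul_of_nonneg_left (sub_nonneg.1 hkey) hCpos.le
  rwa [mul_div_cancel₀ _ hCpos.ne'] at this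

/-- linear forms on a lattice are bounded by a positive quadratic form -/
theorem exists_bound_lattice {A : Type*} [AddCommGroup A] {r : ℕ} (d : A →+ (Fin r → ℤ)) (hd : Function.Injective d)
    (β : A → A → ℚ) (hadd : ∀ x y z, β (x + y) z = β x z + β y z) (hsymm : ∀ x y, β x y = β y x)
    (hpos : ∀ x, x ≠ 0 → 0 < β x x) (φ : A →+ ℚ) :
    ∃ C : ℚ, 0 ≤ C ∧ ∀ x, φ x ^ 2 ≤ C * β x x := by
  haveI : Module.Finite ℤ A := Module.Finite.of_injective d.toIntLinearMap hd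
  haveI : Module.IsTorsionFree ℤ A := hd.moduleIsTorsionFree d (fun n x => map_zsmul d n x)
  haveI : Module.Free ℤ A := inferInstance
  let e := Module.finBasis ℤ A
  let bl : A → A →+ ℚ := fun z => AddMonoidHom.mk' (fun x => β x z) fun x y => hadd x y z
  let M : Matrix (Fin (Module.finrank ℤ A)) (Fin (Module.finrank ℤ A)) ℚ := fun i j => β (e i) (e j)
  have hM : ∀ x : A, β x x = (Int.cast ∘ e.repr x) ⬝ᵥ (M *ᵥ (Int.cast ∘ e.repr x)) := by
    intro x
    have h1 : ∀ z, β x z = ∑ i, (e.repr x i : ℚ) * β (e i) z := fun z => by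
      conv_lhs => rw [← e.sum_repr x]
      rw [show β (∑ i, e.repr x i • e i) z = bl z (∑ i, e.repr x i • e i) from rfl, map_sum]
      exact Finset.sum_congr rfl fun i _ => by rw [map_zsmul, zsmul_eq_mul]; rfl
    rw [h1 x, dotProduct]
    refine Finset.sum_congr rfl fun i _ => ?_
    rw [hsymm (e i) x, h1 (e i), mulVec, dotProduct]
    congr 1
    exact Finset.sum_congr rfl fun j _ => by
      rw [hsymm (e j) (e i)]
      exact _root_.mul_comm _ _
  have hφ : ∀ x : A, φ x = (fun i => φ (e i)) ⬝ᵥ (Int.cast ∘ e.repr x) := by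
    intro x
    conv_lhs => rw [← e.sum_repr x, map_sum]
    exact Finset.sum_congr rfl fun i _ => by rw [map_zsmul, zsmul_eq_mul]; exact _root_.mul_comm _ _
  obtain ⟨C, hC, hb⟩ := exists_bound_matrix M (Matrix.ext fun i j => hsymm (e j) (e i)) (fun v hv => by
    have hx : (e.repr (e.equivFun.symm v) : Fin _ → ℤ) = v := by
      rw [← e.equivFun_apply, LinearEquiv.apply_symm_apply]
    have := hpos (e.equivFun.symm v) fun h => hv (by rw [← hx, h]; simp)
    rwa [hM, hx] at this) fun i => φ (e i)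
  exact ⟨C, hC, fun x => by rw [hφ, hM]; exact hb _⟩

end LinearAlgebra

variable {k : Type u} [Field k]
variable {G T : Over (Spec (CommRingCat.of k))} [GrpObj G] [GrpObj T]

lemma mul_isMonHom {H A : Over (Spec (CommRingCat.of k))} [GrpObj H] [GrpObj A]
    (hc : ∀ {X : Over (Spec (CommRingCat.of k))} (p q : X ⟶ A), p * q = q * p) (f g : H ⟶ A) [IsMonHom f]
    [IsMonHom g] : IsMonHom (f * g) :=
  Groth.AlgGrp1.isMonHom_of_points _ fun W p q => by
    simp only [MonObj.comp_mul, MonObj.mul_comp]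
    rw [_root_.mul_assoc, ← _root_.mul_assoc (q ≫ f) (p ≫ g), hc (q ≫ f) (p ≫ g)]
    simp only [_root_.mul_assoc]

lemma isMonHom_factor {H A : Over (Spec (CommRingCat.of k))} [GrpObj H] [GrpObj A] (j : A ⟶ G) [IsMonHom j] [Mono j]
    (f : H ⟶ A) (h : IsMonHom (f ≫ j)) : IsMonHom f :=
  Groth.AlgGrp1.isMonHom_of_points _ fun W p q => by
    haveI := h
    rw [← cancel_mono j, Category.assoc, MonObj.mul_comp p q (f ≫ j), MonObj.mul_comp (p ≫ f) (q ≫ f) j,
      Category.assoc, Category.assoc]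

variable (k) in
/-- the substitution `z ↦ u` -/
def toArc : Lz k →ₐ[k] Ser.K k :=
  MonoidAlgebra.lift k (Ser.K k) (Multiplicative ℤ) ((Units.coeHom _).comp (zpowersHom _ (Ser.u k)))

lemma comp_toArc : pt (toArc k) ≫ uPt k ℤ = gpt (Ser.u k) := by
  rw [comp_uPt]
  refine cv_ext fun m => ?_
  rw [cv_cvPt, cv_gpt]
  exact MonoidAlgebra.lift_of _ m

section Injective

variable {r : ℕ} (e : sp k (MA k r) ≅ T) [IsMonHom e.hom]

lemma deg_mul_right (l : Red.Gm (Spec (CommRingCat.of k)) ⟶ T) (χ χ' : Lat r) :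
    deg e l (χ * χ') = deg e l χ + deg e l χ' := by
  rw [deg, map_mul]
  exact HahnSeries.order_mul (chr_ne_zero e _ χ) (chr_ne_zero e _ χ')

/-- a one-parameter subgroup is determined by its degrees -/
theorem eq_one_of_deg_eq_zero [IsAlgClosed k] (l : Red.Gm (Spec (CommRingCat.of k)) ⟶ T) [IsMonHom l]
    (h : ∀ χ : Lat r, deg e l χ = 0) : l = 1 := by
  rw [← cancel_epi (uPt k ℤ)]
  refine chr_ext e fun χ => ?_
  let hχ : Lz k := chr e (uPt k ℤ ≫ l) χ
  have hev : ∀ c : kˣ, evL c hχ = chr e (gpt c ≫ l) χ := fun c => by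
    show evL c (chr e (uPt k ℤ ≫ l) χ) = _
    rw [← chr_comp, ← Category.assoc, ← gpt_zU, comp_gpt, evL_zU]
  have hs : ∀ c : kˣ, sigL c hχ = algebraMap k (Lz k) (evL c hχ) * hχ := fun c => by
    have e1 : gpt (k := k) (Units.map (algebraMap k (Lz k)).toMonoidHom c) =
        pt (Algebra.ofId k (Lz k)) ≫ gpt c := by
      rw [comp_gpt]
      rfl
    rw [hev]
    show sigL c (chr e (uPt k ℤ ≫ l) χ) = algebraMap k (Lz k) (chr e (gpt c ≫ l) χ) * chr e (uPt k ℤ ≫ l) χ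
    rw [← chr_comp, ← Category.assoc, ← gpt_zU, comp_gpt, sigL_zU, gpt_mul, MonObj.mul_comp, chr_mul, e1,
      Category.assoc, chr_comp]
    rfl
  have h1 : evL 1 hχ = 1 := by
    rw [hev, gpt_one, MonObj.one_comp]
    refine mul_left_cancel₀ (chr_ne_zero e (1 : sp k k ⟶ T) χ) ?_
    rw [← chr_mul, _root_.one_mul, _root_.mul_one]
  obtain ⟨w, hw⟩ := eq_single_of_scaling hs h1
  have hK : chr e (gpt (Ser.u k) ≫ l) χ = ((Ser.u k ^ w : (Ser.K k)ˣ) : Ser.K k) := by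
    rw [← comp_toArc, Category.assoc, chr_comp]
    show toArc k hχ = _
    rw [hw]
    exact MonoidAlgebra.lift_of _ (Multiplicative.ofAdd w)
  have h0 := h χ
  rw [deg, hK, Ser.val_u_zpow, HahnSeries.order_single one_ne_zero] at h0
  subst h0
  rw [show chr e (uPt k ℤ ≫ l) χ = hχ from rfl, hw, MonObj.comp_one]
  have hone : chr e (1 : sp k (Lz k) ⟶ T) χ = 1 := by
    refine ((Group.isUnit χ).map (chr e (1 : sp k (Lz k) ⟶ T))).mul_left_cancel ?_
    rw [← chr_mul, _root_.one_mul, _root_.mul_one]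
  rw [hone]
  rfl

end Injective

/-- **linear forms on one-parameter subgroups of a torus are bounded by any norm** -/
theorem exists_bound_cochar [IsAlgClosed k] (hT : Red.IsTorus T)
    (b : (Red.Gm (Spec (CommRingCat.of k)) ⟶ T) → (Red.Gm (Spec (CommRingCat.of k)) ⟶ T) → ℚ)
    (hb_add : ∀ (l₁ l₂ l₃ : Red.Gm (Spec (CommRingCat.of k)) ⟶ T) [IsMonHom l₁] [IsMonHom l₂] [IsMonHom l₃],
      b (l₁ * l₂) l₃ = b l₁ l₃ + b l₂ l₃)
    (hb_symm : ∀ (l₁ l₂ : Red.Gm (Spec (CommRingCat.of k)) ⟶ T) [IsMonHom l₁] [IsMonHom l₂], b l₁ l₂ = b l₂ l₁)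
    (hb_pos : ∀ (l : Red.Gm (Spec (CommRingCat.of k)) ⟶ T) [IsMonHom l], l ≠ 1 → 0 < b l l)
    (φ : (Red.Gm (Spec (CommRingCat.of k)) ⟶ T) → ℚ) (hφ : ∀ l₁ l₂, φ (l₁ * l₂) = φ l₁ + φ l₂) :
    ∃ C : ℚ, 0 ≤ C ∧ ∀ (l : Red.Gm (Spec (CommRingCat.of k)) ⟶ T) [IsMonHom l], φ l ^ 2 ≤ C * b l l := by
  obtain ⟨r, e, he⟩ := Groth.AlgGrp1.exists_diag_iso_of_isTorus hT
  haveI := he
  have hc : ∀ {X : Over (Spec (CommRingCat.of k))} (p q : X ⟶ T), p * q = q * p :=
    fun p q => Groth.Reductive2.torus_mul_comm hT p q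
  let H : Subgroup (Red.Gm (Spec (CommRingCat.of k)) ⟶ T) :=
    { carrier := {l | IsMonHom l}
      one_mem' := show IsMonHom (1 : Red.Gm (Spec (CommRingCat.of k)) ⟶ T) from
        Groth.AlgGrp1.isMonHom_of_points (1 : Red.Gm (Spec (CommRingCat.of k)) ⟶ T) fun W p q => by rw [MonObj.comp_one, MonObj.comp_one, MonObj.comp_one, _root_.one_mul]
      mul_mem' := fun {p q} hp hq => @mul_isMonHom _ _ _ _ _ _ hc p q hp hq
      inv_mem' := fun {p} hp => show IsMonHom p⁻¹ from Groth.AlgGrp1.isMonHom_of_points p⁻¹ fun W x y => by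
        haveI : IsMonHom p := hp
        rw [GrpObj.comp_inv, GrpObj.comp_inv, GrpObj.comp_inv, MonObj.mul_comp x y p, mul_inv_rev, hc] }
  letI : CommGroup H := { (inferInstance : Group H) with mul_comm := fun p q => Subtype.ext (hc p.1 q.1) }
  let dd : Additive H →+ (Fin r → ℤ) :=
    AddMonoidHom.mk' (fun p q => deg e p.toMul.1 (Multiplicative.ofAdd (Pi.single q 1)))
      (fun p p' => funext fun q => deg_mul e _ _ _)
  have hdd : Function.Injective dd := by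
    rw [injective_iff_map_eq_zero]
    intro p hp
    haveI : IsMonHom p.toMul.1 := p.toMul.2
    refine Additive.toMul.injective (Subtype.ext (eq_one_of_deg_eq_zero e p.toMul.1 fun χ => ?_))
    let f : (Fin r → ℤ) →+ ℤ := AddMonoidHom.mk' (fun χ => deg e p.toMul.1 (Multiplicative.ofAdd χ))
      fun χ χ' => by
        rw [ofAdd_add]
        exact deg_mul_right e _ _ _
    have hf : f = 0 := AddMonoidHom.functions_ext _ _ _ fun q z => by
      have hz : (Pi.single q z : Fin r → ℤ) = z • Pi.single q (1 : ℤ) := by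
        rw [← Pi.single_smul, smul_eq_mul, _root_.mul_one]
      rw [hz, map_zsmul, map_zsmul, show f (Pi.single q 1) = dd p q from rfl, hp]
      simp
    exact DFunLike.congr_fun hf χ.toAdd
  obtain ⟨C, hC, hb⟩ := exists_bound_lattice dd hdd (fun p q => b p.toMul.1 q.toMul.1)
    (fun p q z => @hb_add _ _ _ p.toMul.2 q.toMul.2 z.toMul.2)
    (fun p q => @hb_symm _ _ p.toMul.2 q.toMul.2)
    (fun p hp => @hb_pos _ p.toMul.2 fun h => hp (Additive.toMul.injective (Subtype.ext h)))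
    (AddMonoidHom.mk' (fun p => φ p.toMul.1) fun p q => hφ _ _)
  exact ⟨C, hC, fun l hl => hb (Additive.ofMul ⟨l, hl⟩)⟩

/-- **every one-parameter subgroup is conjugate into a maximal torus** -/
theorem exists_cochar_conj [IsAlgClosed k] [IsAffine G.left] [Smooth G.hom] [ConnectedSpace G.left]
    {i : T ⟶ G} (hi : Red.IsMaximalTorus i) (l : Red.Gm (Spec (CommRingCat.of k)) ⟶ G) [IsMonHom l] :
    ∃ (g : 𝟙_ (Over (Spec (CommRingCat.of k))) ⟶ G) (l₀ : Red.Gm (Spec (CommRingCat.of k)) ⟶ T),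
      IsMonHom l₀ ∧ l = AGF.conjBy g (l₀ ≫ i) := by
  open Groth.AlgGrp1 in
  have hgm : Red.IsTorus (Red.Gm (Spec (CommRingCat.of k))) := Groth.RedX.isTorus_DS _ ℤ
  open Groth.AlgGrp1 in
  obtain ⟨B₀, _, i₀, hi₀, X₀, a₀, o, hB₀, hX, hp⟩ := exists_borel_proper (G := G)
  have hmax := (Groth.Reductive2.MaxTorus.isMaximalTorus_iff i).1 hi
  haveI := hi₀
  have hci : IsClosedImmersion i₀.left := hB₀.2.1
  haveI : Mono i₀ := Over.mono_of_mono_left i₀
  -- conjugate `l` into the Borel subgroup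
  obtain ⟨haff, hsm, hcn⟩ := Groth.AlgGrp1.isAffine_smooth_connected_of_isTorus hgm
  obtain ⟨n, hn⟩ := Groth.AlgGrp1.isSolvableGrp_of_isTorus hgm
  haveI : Nonempty X₀.left := ⟨o.left.base (IsLocalRing.closedPoint k : PrimeSpectrum k)⟩
  obtain ⟨p, hp'⟩ := Groth.AlgGrp1.exists_fixedPt_of_derivedSeries n (Red.Gm (Spec (CommRingCat.of k))) (hn _) X₀
    (a₀.restrict l)
  obtain ⟨g, rfl⟩ := Groth.AlgGrp1.exists_rpt_lift (a₀.orbitMap o) p (hX.2.2.1.surj _)
  have h1 := hp' (Red.Gm (Spec (CommRingCat.of k))) (𝟙 _)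
  rw [AlgGrp.Action.lift_restrict_act, Category.id_comp] at h1
  have h2 : (l * (toUnit _ ≫ g)) ≫ a₀.orbitMap o = (toUnit _ ≫ g) ≫ a₀.orbitMap o := by
    rw [Category.assoc]
    refine Eq.trans ?_ h1
    rw [Groth.AlgGrp1.comp_orbit a₀ (l * (toUnit _ ≫ g)), Groth.AlgGrp2.lift_mul_act,
      ← Groth.AlgGrp1.comp_orbit a₀ (toUnit _ ≫ g), Category.assoc]
  obtain ⟨f, hf⟩ := (Groth.AlgGrp1.comp_orbit_eq_iff hX _ _ _).1 h2.symm
  have hfc : f ≫ i₀ = AGF.conjBy g⁻¹ l := by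
    unfold AGF.conjBy
    rw [GrpObj.comp_inv, _root_.inv_inv, _root_.mul_assoc, hf, inv_mul_cancel_left]
  haveI : IsMonHom f := isMonHom_factor i₀ f (by rw [hfc]; exact Groth.AlgGrp1.isMonHom_conjBy g⁻¹ l)
  obtain ⟨S, iS, s, hsm', hsc, hS, habs, habs'⟩ := Groth.AlgGrp1.exists_torus_absorbing_of_borel hB₀
  obtain ⟨c, f', hf'⟩ := habs _ f hgm
  haveI := hsm'
  haveI : IsClosedImmersion (s ≫ i₀).left := by rw [Over.comp_left]; infer_instance
  obtain ⟨-, hall⟩ := Groth.AlgGrp1.isMaxTorus_of_absorbing (s ≫ i₀) hS habs'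
  obtain ⟨y, φ, hφ⟩ := hall T i hmax
  have hc' : f' ≫ s ≫ i₀ = AGF.conjBy (c ≫ i₀) (f ≫ i₀) := by
    rw [← Category.assoc, hf']
    unfold AGF.conjBy
    rw [MonObj.mul_comp, MonObj.mul_comp, GrpObj.inv_comp, Category.assoc]
  have hl : (f' ≫ φ.inv) ≫ i = AGF.conjBy (y⁻¹ * ((c ≫ i₀) * g⁻¹)) l := by
    have : φ.inv ≫ AGF.conjBy y i = s ≫ i₀ := by rw [← hφ, Iso.inv_hom_id_assoc]
    rw [← Groth.AlgGrp1.conjBy_conjBy, ← Groth.AlgGrp1.conjBy_conjBy (c ≫ i₀), ← hfc, ← hc', ← this,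
      Groth.AlgGrp1.comp_conjBy', Groth.AlgGrp1.comp_conjBy', Groth.AlgGrp1.conjBy_conjBy, inv_mul_cancel,
      Groth.AlgGrp1.conjBy_one, Category.assoc]
  haveI := hi.1
  haveI : Mono i := hi.2.1
  refine ⟨(y⁻¹ * ((c ≫ i₀) * g⁻¹))⁻¹, f' ≫ φ.inv, ?_, ?_⟩
  · exact isMonHom_factor i _ (by rw [hl]; exact Groth.AlgGrp1.isMonHom_conjBy _ l)
  · rw [hl, Groth.AlgGrp1.conjBy_conjBy, inv_mul_cancel, Groth.AlgGrp1.conjBy_one]

end Groth.GitMu
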