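/- Invariance of the numerical function under the parabolic subgroup of a one-parameter subgroup. -/
import Groth.Agent.GitMu.Limit
import Groth.Agent.GitMu.Translate

set_option autoImplicit false

universe u

open CategoryTheory MonoidalCategory CartesianMonoidalCategory MonObj AlgebraicGeometry Opposite

noncomputable section

namespace Groth.GitMu

variable {S : Scheme.{u}} {G X : Over S} [GrpObj G] [IsSeparated G.hom]
  {a : AlgGrp.Action G X} {l : Red.Gm S ⟶ G} [IsMonHom l] {c₀ : 𝟙_ (Over S) ⟶ G} {f : HMNum.A1 S ⟶ G}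
  (hf : HMNum.incl S ≫ f = l * (toUnit _ ≫ c₀) * l⁻¹)

include hf

omit [IsSeparated G.hom] in
lemma conjExt_equivariant_gm {T : Over S} (u v : T ⟶ Red.Gm S) :
    ((u ≫ HMNum.incl S) * (v ≫ HMNum.incl S)) ≫ f = (u ≫ l) * ((v ≫ HMNum.incl S) ≫ f) * (u ≫ l)⁻¹ := by
  rw [← MonObj.mul_comp, Category.assoc, Category.assoc, hf]
  simp only [MonObj.comp_mul, GrpObj.comp_inv, MonObj.mul_comp, mul_inv_rev, _root_.mul_assoc, comp_toUnit_assoc]

lemma conjExt_equivariant {T : Over S} (u : T ⟶ Red.Gm S) (s : T ⟶ HMNum.A1 S) :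
    ((u ≫ HMNum.incl S) * s) ≫ f = (u ≫ l) * (s ≫ f) * (u ≫ l)⁻¹ := by
  have key : ((snd (HMNum.A1 S) (Red.Gm S) ≫ HMNum.incl S) * fst (HMNum.A1 S) (Red.Gm S)) ≫ f =
      (snd (HMNum.A1 S) (Red.Gm S) ≫ l) * (fst (HMNum.A1 S) (Red.Gm S) ≫ f) *
        (snd (HMNum.A1 S) (Red.Gm S) ≫ l)⁻¹ := by
    refine Groth.MiscGeom.Mag.whiskerRight_cancel HMNum.plus.subtype Subtype.val_injective ?_
    simp only [← Category.assoc, MonObj.comp_mul, GrpObj.comp_inv, whiskerRight_snd, whiskerRight_fst]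
    exact conjExt_equivariant_gm hf (snd _ _) (fst _ _)
  have h := congrArg (lift s u ≫ ·) key
  simp only [MonObj.comp_mul, GrpObj.comp_inv, ← Category.assoc, lift_fst, lift_snd] at h
  exact h

lemma conjExt_origin_comm :
    l * (toUnit _ ≫ HMNum.origin S ≫ f) = (toUnit _ ≫ HMNum.origin S ≫ f) * l := by
  have h := conjExt_equivariant hf (𝟙 (Red.Gm S)) (toUnit _ ≫ HMNum.origin S)
  have e : (𝟙 (Red.Gm S) ≫ HMNum.incl S) * (toUnit _ ≫ HMNum.origin S) = toUnit _ ≫ HMNum.origin S := by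
    have hq := Magnet.isEquivariant_faceMapS S HMNum.isFace_bot
    rw [Magnet.MonAct.isEquivariant_iff] at hq
    have h2 := hq (Red.Gm S) (𝟙 _) (toUnit _ ≫ η[Magnet.AMonS S ↥(⊥ : AddSubmonoid ℤ)])
    simp only [Magnet.subAct, Magnet.MonAct.lift_restrict_act, Magnet.MonAct.lift_regular_act,
      Magnet.MonAct.lift_restrict_act_assoc, Magnet.MonAct.lift_regular_act_assoc] at h2
    rw [subsingleton_bot (_ * _) (toUnit _ ≫ η[Magnet.AMonS S ↥(⊥ : AddSubmonoid ℤ)]),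
      Category.assoc] at h2
    exact h2.symm
  rw [e, Category.id_comp, Category.assoc] at h
  calc l * (toUnit _ ≫ HMNum.origin S ≫ f)
      = l * (toUnit _ ≫ HMNum.origin S ≫ f) * l⁻¹ * l := by rw [inv_mul_cancel_right]
    _ = _ := by rw [← h]

lemma isLimitPt_parabolic {T : Over S} {x y : T ⟶ X} (h : HMNum.IsLimitPt a l x y) :
    HMNum.IsLimitPt a l (lift (toUnit T ≫ c₀) x ≫ a.act)
      (y ≫ tau a (HMNum.origin S ≫ f)) := by
  obtain ⟨φ, hx, hy⟩ := h
  have hφ := φ.2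
  rw [Magnet.MonAct.mem_eqvHom_iff] at hφ
  refine ⟨⟨lift (fst _ _ ≫ f) φ.1 ≫ a.act, ?_⟩, ?_, ?_⟩
  · rw [Magnet.MonAct.mem_eqvHom_iff]
    intro T' u b t
    simp only [comp_lift_assoc, lift_fst_assoc, hφ T' u b t]
    simp only [Magnet.subAct, Magnet.MonAct.lift_restrict_act, Magnet.MonAct.ofAction_act,
      Magnet.MonAct.lift_regular_act]
    rw [conjExt_equivariant hf u b, ← Groth.AlgGrp2.lift_mul_act, ← Groth.AlgGrp2.lift_mul_act,
      inv_mul_cancel_right]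
  · rw [← hx]
    change lift (toUnit T ≫ η[HMNum.A1 S]) (𝟙 T) ≫ (lift (fst _ _ ≫ f) φ.1 ≫ a.act) =
      lift (toUnit T ≫ c₀) (lift (toUnit T ≫ η[HMNum.A1 S]) (𝟙 T) ≫ φ.1) ≫ a.act
    rw [comp_lift_assoc, lift_fst_assoc]
    congr 2
    have h1 : η[HMNum.A1 S] = η[Red.Gm S] ≫ HMNum.incl S := (IsMonHom.one_hom (HMNum.incl S)).symm
    rw [h1, Category.assoc, Category.assoc, hf]
    simp only [MonObj.comp_mul, GrpObj.comp_inv, IsMonHom.one_hom, ← Category.assoc, comp_toUnit]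
    simp [← Hom.one_def]
  · rw [← hy]
    refine (HMNum.limitPt_eq _).trans ?_
    rw [HMNum.limitPt_eq, comp_tau, comp_lift_assoc, lift_fst_assoc, Category.assoc]

/-- Half of the invariance. -/
theorem isMu_parabolic (B : GLinSh.LinBun G a)
    (hS : Subsingleton (𝟙_ (Over S)).left) (hS' : Nonempty (𝟙_ (Over S)).left)
    {x : 𝟙_ (Over S) ⟶ X} {m : ℤ} (h : HMNum.IsMu B l x m) :
    HMNum.IsMu B l (lift c₀ x ≫ a.act) m := by
  obtain ⟨y, hy, hw⟩ := h
  have hy' := isLimitPt_parabolic hf hy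
  rw [toUnit_unique (toUnit (𝟙_ (Over S))) (𝟙 _), Category.id_comp] at hy'
  exact ⟨_, hy', hasFibreWt_tau a (HMNum.origin S ≫ f) (conjExt_origin_comm hf) B.atlas B.lift_π
    B.lift_linear hS hS' hw⟩

/-- The numerical function is invariant under the parabolic subgroup. -/
theorem isMu_parabolic_iff (B : GLinSh.LinBun G a)
    (hS : Subsingleton (𝟙_ (Over S)).left) (hS' : Nonempty (𝟙_ (Over S)).left)
    (x : 𝟙_ (Over S) ⟶ X) (m : ℤ) :
    HMNum.IsMu B l (lift c₀ x ≫ a.act) m ↔ HMNum.IsMu B l x m := by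
  refine ⟨fun h => ?_, isMu_parabolic hf B hS hS'⟩
  have hf' : HMNum.incl S ≫ f⁻¹ = l * (toUnit _ ≫ c₀⁻¹) * l⁻¹ := by
    rw [GrpObj.comp_inv, hf]
    simp [GrpObj.comp_inv, _root_.mul_assoc]
  have h' := isMu_parabolic hf' B hS hS' h
  rwa [Groth.AlgGrp2.lift_inv_act] at h'

end Groth.GitMu
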